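import Cfsg.Agent.H24.Balance.LTop

/-!
Rigidity of the good automorphisms relative to a centric subgroup, and their lifts to the join with the hull.
-/

set_option autoImplicit false
set_option linter.unusedSectionVars false

namespace Cfsg.Agent.H35.ProdLift

open Cfsg Cfsg.FusionSystem
open Cfsg.Agent.H93 (Mor)
open Cfsg.Agent.H94.Meet (TCentric exists_conjAut hull)
open Cfsg.Agent.H24.Balance

variable {Ω : Type*} [Group Ω] {S T : Subgroup Ω} {F : FusionSystem S} {E : FusionSystem T} {p : ℕ}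
  [Finite S] [Fact p.Prime]

/-- A good automorphism with centric part in `T` is congruent and lies in the system. -/
theorem goodAut_centric {V : Subgroup Ω} {a : MulAut V} (hc : TCentric F T (V ⊓ T)) (ha : GoodAut p F E V a) :
    a ∈ F.autGroup V ∧ CongT T V a ∧ InE E V a := by
  cases ha with
  | base _ h _ h' _ h'' => exact ⟨h, h', h''⟩
  | step h _ _ _ _ _ => exact absurd hc h

/-- Good automorphisms agreeing on a normalized centric subgroup differ by an inner automorphism from its centre. -/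
theorem good_eq_conj (hS : IsPGroup p S) (hE : E.IsNormalIn F p) {W V : Subgroup Ω} (hWc : TCentric F T W)
    (hWV : W ≤ V ⊓ T) (hVN : V ≤ normalizerIn S W) {a b : MulAut V} (hc : TCentric F T (V ⊓ T))
    (ha : GoodAut p F E V a) (hb : GoodAut p F E V b) (hab : ∀ x : V, (x : Ω) ∈ W → a x = b x) :
    ∃ z ∈ W, (∀ q ∈ W, z * q * z⁻¹ = q) ∧ ∀ x y : V, (y : Ω) = z * x * z⁻¹ → a x = b y := by
  obtain ⟨hEs, hF, hI⟩ := id hE.1
  have hT := hI.2.1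
  have hVS : V ≤ S := hVN.trans inf_le_left
  obtain ⟨V₁, φ, hφ, hp⟩ := exists_prime hS hF hT hVS
  have hV₁ : V₁ ≤ S := hp.1.1
  have hc₁ : TCentric F T (V₁ ⊓ T) := hc.of_mor hT (mor_inf hT hφ)
  have := H96.finite_of_le hV₁
  have : Finite (MulAut V₁) := Finite.of_injective (fun e : MulAut V₁ => (e : V₁ → V₁)) DFunLike.coe_injective
  obtain ⟨a₁, ha₁⟩ := exists_conjAut hφ a
  obtain ⟨b₁, hb₁⟩ := exists_conjAut hφ b
  obtain ⟨K, hKF, -, hKH, hAK, hidx, hKp⟩ := exists_sylow_normal hS hE hp hc₁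
  have hga := ha.conj hI hφ ha₁
  have hgb := hb.conj hI hφ hb₁
  have haK := hKp _ (inH_of_goodAut hS hE hp hc₁ hga) hga.coprime
  have hbK := hKp _ (inH_of_goodAut hS hE hp hc₁ hgb) hgb.coprime
  have hWV' : W ≤ V := hWV.trans inf_le_left
  obtain ⟨W₁, hW₁V, hφW⟩ := hφ.restrict hWV'
  have hW₁c : TCentric F T W₁ := hWc.of_mor hT hφW
  obtain ⟨d, hd⟩ : ∃ d, d = b₁⁻¹ * a₁ := ⟨_, rfl⟩
  have hdK : d ∈ K := hd ▸ mul_mem (inv_mem hbK) haK
  have hdfix : ∀ y : V₁, (y : Ω) ∈ W₁ → d y = y := by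
    intro y hy
    obtain ⟨q, hq, hqy⟩ := hφW.surj hy
    have h1 : a₁ y = b₁ y := by
      rw [show y = ⟨φ q, hφ.map_mem (hWV' hq)⟩ from Subtype.ext hqy.symm]
      exact Subtype.ext ((ha₁ ⟨q, hWV' hq⟩).symm.trans
        ((congrArg (fun v : V => φ (v : Ω)) (hab ⟨q, hWV' hq⟩ hq)).trans (hb₁ ⟨q, hWV' hq⟩)))
    rw [hd, MulAut.mul_apply, h1, MulAut.inv_apply_self]
  have hmod : ∀ y : V₁, (y : Ω)⁻¹ * ((d y : V₁) : Ω) ∈ W₁ := by
    intro y
    refine hW₁c.2 W₁ (H93.isConj_refl F (hW₁V.trans hV₁))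
      (H93.mem_centralizerIn.2 ⟨(hKH d hdK).congT y, fun q hq => ?_⟩)
    obtain ⟨u, hu, huy⟩ := hφ.surj y.2
    have hN := hφ.map_mem_normalizerIn hφW hWV' hu (hVN hu).2
    rw [huy] at hN
    have hq1 : (y : Ω) * q * (y : Ω)⁻¹ ∈ W₁ := H93.mem_normalizerIn_conj hN hq
    have h1 : d (y * ⟨q, hW₁V hq⟩ * y⁻¹) = y * ⟨q, hW₁V hq⟩ * y⁻¹ := hdfix _ hq1
    rw [map_mul, map_mul, map_inv, hdfix ⟨q, hW₁V hq⟩ hq] at h1
    have h2 : ((d y : V₁) : Ω) * q * ((d y : V₁) : Ω)⁻¹ = (y : Ω) * q * (y : Ω)⁻¹ := congrArg Subtype.val h1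
    calc (y : Ω)⁻¹ * (d y : V₁) * q * ((y : Ω)⁻¹ * (d y : V₁))⁻¹
        = (y : Ω)⁻¹ * (((d y : V₁) : Ω) * q * ((d y : V₁) : Ω)⁻¹) * y := by group
      _ = q := by rw [h2]; group
  obtain ⟨n, hn⟩ := H93.pow_eq_one_of_stabilizes hS hV₁ (δ := d) (R := W₁) hdfix hmod
  -- it is conjugate in `K` to an automorphism induced by `T`
  have hPp : IsPGroup p ((autInducedBy T V₁).subgroupOf K) :=
    (H94.isPGroup_autInducedBy (P := V₁) (hS.to_le hT.1)).comap_of_injective _ (Subgroup.subtype_injective _)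
  have hdp : (⟨d, hdK⟩ : K) ^ p ^ n = 1 := Subtype.ext hn
  obtain ⟨Q, hQ⟩ := (isPGroup_zpowers hdp).exists_le_sylow
  obtain ⟨k, hk⟩ := MulAction.exists_smul_eq K Q (hPp.toSylow hidx)
  have hkd : k * ⟨d, hdK⟩ * k⁻¹ ∈ (autInducedBy T V₁).subgroupOf K := by
    have hm := Subgroup.smul_mem_pointwise_smul _ (MulAut.conj k) _ (hQ (Subgroup.mem_zpowers _))
    rw [← IsPGroup.mem_toSylow hPp hidx, ← hk]
    exact hm
  obtain ⟨t, ht, hte⟩ := H96.mem_autInducedBy.1 (Subgroup.mem_subgroupOf.1 hkd)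
  obtain ⟨fk, hfk, hfke⟩ := H93.exists_mor_of_aut hV₁ (hKF k.2)
  obtain ⟨W₂, hW₂V, hfkW⟩ := hfk.restrict hW₁V
  have hdk : ∀ y : V₁, (((k : MulAut V₁) (d y) : V₁) : Ω) = t * ((k : MulAut V₁) y : V₁) * t⁻¹ := by
    intro y
    have := hte ((k : MulAut V₁) y)
    rw [Subgroup.coe_mul, Subgroup.coe_mul, Subgroup.coe_inv, MulAut.mul_apply, MulAut.mul_apply,
      MulAut.inv_apply_self] at this
    exact this
  have htW : t ∈ W₂ := by
    refine (hW₁c.of_mor hT hfkW).2 W₂ (H93.isConj_refl F hfkW.le_right)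
      (H93.mem_centralizerIn.2 ⟨ht, fun q hq => ?_⟩)
    obtain ⟨w, hw, rfl⟩ := hfkW.surj hq
    have h1 := hdk ⟨w, hW₁V hw⟩
    rw [hdfix _ hw, ← hfke] at h1
    exact h1.symm
  obtain ⟨w₁, hw₁, hw₁t⟩ := hfkW.surj htW
  obtain ⟨z, hz, hzw⟩ := hφW.surj hw₁
  have hdval : ∀ y : V₁, d y = ⟨w₁, hW₁V hw₁⟩ * y * ⟨w₁, hW₁V hw₁⟩⁻¹ := by
    intro y
    apply (k : MulAut V₁).injective
    refine Subtype.ext ?_
    rw [map_mul, map_mul, map_inv, Subgroup.coe_mul, Subgroup.coe_mul, Subgroup.coe_inv, hdk, ← hfke ⟨w₁, hW₁V hw₁⟩]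
    show _ = fk w₁ * _ * (fk w₁)⁻¹
    rw [hw₁t]
  refine ⟨z, hz, fun q hq => ?_, fun x y hxy => ?_⟩
  · refine hφ.injOn (V.mul_mem (V.mul_mem (hWV' hz) (hWV' hq)) (V.inv_mem (hWV' hz))) (hWV' hq) ?_
    rw [hφ.map_conj (hWV' hz) (hWV' hq), hzw]
    have h1 := congrArg Subtype.val (hdval ⟨φ q, hφ.map_mem (hWV' hq)⟩)
    rw [hdfix _ (hφW.map_mem hq)] at h1
    exact h1.symm
  · refine Subtype.ext (hφ.injOn (a x).2 (b y).2 ?_)
    rw [ha₁ x, hb₁ y, show a₁ = b₁ * d by rw [hd]; group, MulAut.mul_apply, hdval]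
    refine congrArg (fun v : V₁ => ((b₁ v : V₁) : Ω)) (Subtype.ext ?_)
    show w₁ * φ x * w₁⁻¹ = φ y
    rw [hxy, hφ.map_conj (hWV' hz) x.2, hzw]

/-- A good automorphism stabilizing a fully normalized centric subgroup of `T` extends to the join with its hull,
up to conjugation by an element of its centre. -/
theorem exists_lift (hS : IsPGroup p S) (hE : E.IsNormalIn F p) {W V : Subgroup Ω} (hWc : TCentric F T W)
    (hWn : F.IsFullyNormalized W) (hWV : W ≤ V ⊓ T) (hV : V ≤ normalizerIn S W) (hc : TCentric F T (V ⊓ T))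
    {a : MulAut V} (ha : GoodAut p F E V a) (haW : ∀ x : V, ((a x : V) : Ω) ∈ W ↔ (x : Ω) ∈ W) :
    ∃ (b : MulAut ↥(hull S W ⊔ V)) (β : MulAut ↥(hull S W)) (z : Ω),
      b ∈ F.autGroup (hull S W ⊔ V) ∧ (orderOf b).Coprime p ∧ CongT T (hull S W ⊔ V) b ∧
      InH F E (hull S W) β ∧ (orderOf β).Coprime p ∧
      (∀ (y : ↥(hull S W)) (hy : (y : Ω) ∈ hull S W ⊔ V),
        ((b ⟨y, hy⟩ : ↥(hull S W ⊔ V)) : Ω) = ((β y : ↥(hull S W)) : Ω)) ∧
      z ∈ W ∧ (∀ q ∈ W, z * q * z⁻¹ = q) ∧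
      ∀ (x : V) (hx : z * (x : Ω) * z⁻¹ ∈ hull S W ⊔ V),
        ((a x : V) : Ω) = ((b ⟨_, hx⟩ : ↥(hull S W ⊔ V)) : Ω) := by
  obtain ⟨hEs, hF, hI⟩ := id hE.1
  have hT := hI.2.1
  have hVS : V ≤ S := hV.trans inf_le_left
  have hWV' : W ≤ V := hWV.trans inf_le_left
  have hWT : W ≤ T := hWV.trans inf_le_right
  obtain ⟨haF, hac, hin⟩ := goodAut_centric hc ha
  have hap := ha.coprime
  obtain ⟨fQ₀, hfQ₀, hfQe⟩ := hin
  have hfQ : Mor E W W fQ₀ := by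
    refine hfQ₀.restrict_eq hWV (fun x hx => ?_) fun y hy => ?_
    · rw [show fQ₀ x = _ from hfQe ⟨x, hWV' hx⟩ (hWT hx)]
      exact (haW _).2 hx
    · obtain ⟨x, hxe⟩ := a.surjective ⟨y, hWV' hy⟩
      have hxW : (x : Ω) ∈ W := (haW x).1 (by rw [hxe]; exact hy)
      exact ⟨x, hxW, by rw [hfQe x (hWT hxW), hxe]⟩
  obtain ⟨aQ, haQ, haQe⟩ := hfQ.exists_aut
  have hWS : W ≤ S := hWT.trans hT.1
  have := H96.finite_of_le hWS
  have := H96.finite_of_le hVS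
  have hWf : F.IsFullyCentralized W := H94.fullyNormalized_fullyCentralized hS hF hWn
  have hQE : E.IsCentric W := by
    refine ⟨hWT, fun Q' hQ' => ?_⟩
    obtain ⟨φ, hφ, hr⟩ := hQ'
    exact hWc.2 Q' ⟨φ, hI.1 _ hφ, hr⟩
  obtain ⟨g, hg, hgQ, hgc⟩ := H93.NormalCongruence.congAt_of_autGroup hS hE hQE (Mor.id F hWS) hWf haQ
  have hga : ∀ x : W, g x = ((a ⟨x, hWV' x.2⟩ : V) : Ω) := fun x =>
    (hgQ x).trans ((haQe x).trans (hfQe ⟨x, hWV' x.2⟩ (hWT x.2)))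
  obtain ⟨fa, hfa, hfae⟩ := H93.exists_mor_of_aut hVS haF
  have hfaQ : Mor F W W fa := by
    refine hfa.restrict_eq hWV' (fun x hx => ?_) fun y hy => ?_
    · rw [show fa x = _ from hfae ⟨x, hWV' hx⟩]
      exact (haW _).2 hx
    · obtain ⟨x, hxe⟩ := a.surjective ⟨y, hWV' hy⟩
      exact ⟨x, (haW x).1 (by rw [hxe]; exact hy), by rw [hfae, hxe]⟩
  have hHS : hull S W ≤ S := H94.Meet.hull_le hWS
  have := H96.finite_of_le hHS
  have hgQm : Mor F W W g := hfaQ.congr fun x hx => ((hga ⟨x, hx⟩).trans (hfae ⟨x, hWV' hx⟩).symm).symm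
  obtain ⟨gi, hgi, hgi1, hgi2⟩ := hg.exists_inv
  have hnW : ∀ z ∈ V, z ∈ normalizerIn S W := fun z hz => hV hz
  have hVh : ∀ z ∈ V, z ∈ normalizerIn S (hull S W) := fun z hz =>
    H35.Meet.le_hull_normalizer (hV hz) hWS
  -- transporters for the elements of `V`
  have htr : ∀ z : V, ∃ e ∈ centralizerIn S W, ∀ y ∈ hull S W,
      g ((z : Ω) * y * (z : Ω)⁻¹) = (((a z : V) : Ω) * e) * g y * (((a z : V) : Ω) * e)⁻¹ := by
    intro z
    have haz := hVh _ (a z).2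
    have hm := ((H93.mor_conj F hHS (Subgroup.inv_mem _ haz)).comp
      (hg.comp ((H93.mor_conj F hHS (hVh z z.2)).comp hgi)))
    obtain ⟨δ, hδ, hδe⟩ := hm.exists_aut
    have hfix : ∀ y : ↥(hull S W), (y : Ω) ∈ W → δ y = y := by
      intro y hy
      obtain ⟨q, hq, hqy⟩ := hgQm.surj hy
      refine Subtype.ext ((hδe y).trans ?_)
      show ((a z : V) : Ω)⁻¹ * g ((z : Ω) * gi y * (z : Ω)⁻¹) * ((a z : V) : Ω)⁻¹⁻¹ = y
      have hgy : gi y = q := by rw [← hqy, hgi1 _ (H94.Meet.le_hull S _ hq)]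
      rw [hgy, show g ((z : Ω) * q * (z : Ω)⁻¹) = _ from hga ⟨_, H93.mem_normalizerIn_conj (hnW _ z.2) hq⟩,
        show (⟨(z : Ω) * q * (z : Ω)⁻¹, hWV' (H93.mem_normalizerIn_conj (hnW _ z.2) hq)⟩ : V) =
          z * ⟨q, hWV' hq⟩ * z⁻¹ from rfl, map_mul, map_mul, map_inv, Subgroup.coe_mul, Subgroup.coe_mul,
        Subgroup.coe_inv, ← hga ⟨q, hq⟩]
      show _ * (((a z : V) : Ω) * g q * ((a z : V) : Ω)⁻¹) * _ = _
      rw [hqy]
      group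
    have hmod : ∀ y : ↥(hull S W), (y : Ω)⁻¹ * ((δ y : ↥(hull S W)) : Ω) ∈ W := by
      intro y
      refine hWc.mem_of_hull hT.1 ((hull S _).mul_mem ((hull S _).inv_mem y.2) (δ y).2) ?_
      rw [hδe]
      show (y : Ω)⁻¹ * (((a z : V) : Ω)⁻¹ * g ((z : Ω) * gi y * (z : Ω)⁻¹) * ((a z : V) : Ω)⁻¹⁻¹) ∈ T
      have hzS : (z : Ω) ∈ S := hVS z.2
      have hgiy := hgi.map_mem y.2
      have e1 : (y : Ω)⁻¹ * gi y ∈ T := by
        have := cong_symm (hgc _ hgiy)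
        rwa [hgi2 _ y.2] at this
      have e2 : ((z : Ω) * gi y * (z : Ω)⁻¹)⁻¹ * g ((z : Ω) * gi y * (z : Ω)⁻¹) ∈ T := by
        exact hgc _ (H93.mem_normalizerIn_conj (hVh _ z.2) hgiy)
      have haz' : (z : Ω)⁻¹ * ((a z : V) : Ω) ∈ T := hac z
      have e3 : ((z : Ω) * (y : Ω) * (z : Ω)⁻¹)⁻¹ * g ((z : Ω) * gi y * (z : Ω)⁻¹) ∈ T :=
        cong_trans (cong_mul hT (S.inv_mem hzS) (cong_mul hT (hHS y.2) (by simp) e1) (by simp)) e2
      have e4 := cong_mul hT (S.inv_mem (S.inv_mem hzS))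
        (cong_mul hT (S.mul_mem (S.mul_mem hzS (hHS y.2)) (S.inv_mem hzS)) (cong_inv hT hzS haz') e3)
        (cong_inv hT (S.inv_mem hzS) (cong_inv hT hzS haz'))
      convert e4 using 1
      group
    obtain ⟨e, he, hee⟩ := H24.Meet.stabilizer_eq_conj hS hF hWf hδ hfix hmod
    refine ⟨e, he, fun y hy => ?_⟩
    have h1 := hee ⟨g y, hg.map_mem hy⟩
    rw [hδe] at h1
    change ((a z : V) : Ω)⁻¹ * g ((z : Ω) * gi (g y) * (z : Ω)⁻¹) * ((a z : V) : Ω)⁻¹⁻¹ = e * g y * e⁻¹ at h1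
    rw [hgi1 y hy] at h1
    calc g ((z : Ω) * y * (z : Ω)⁻¹)
        = ((a z : V) : Ω) * (((a z : V) : Ω)⁻¹ * g ((z : Ω) * y * (z : Ω)⁻¹) * ((a z : V) : Ω)⁻¹⁻¹) *
            ((a z : V) : Ω)⁻¹ := by group
      _ = _ := by rw [h1]; group
  -- extension to the join with `V`
  have hrec := H24.Meet.hull_isReceptive hS hF hWf
  obtain ⟨ψ, R, hψ, hψv, hψH⟩ := hg.extend (M := V) hrec fun z hz => by
    obtain ⟨e, he, hee⟩ := htr ⟨z, hz⟩
    exact ⟨hVh z hz, _, S.mul_mem (hVS (a ⟨z, hz⟩).2) he.1, hee⟩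
  obtain ⟨J, hJ⟩ : ∃ J, J = hull S W ⊔ V := ⟨_, rfl⟩
  rw [← hJ] at hψ
  have hHJ : hull S W ≤ J := hJ ▸ le_sup_left
  have hVJ : V ≤ J := hJ ▸ le_sup_right
  have hJS : J ≤ S := hJ ▸ sup_le hHS hVS
  have := H96.finite_of_le hJS
  have hψz : ∀ z : V, ∃ h ∈ hull S W, ψ z = ((a z : V) : Ω) * h := by
    intro z
    obtain ⟨e, he, hee⟩ := htr z
    refine ⟨e * ((((a z : V) : Ω) * e)⁻¹ * ψ z), (hull S _).mul_mem (H94.Meet.centralizerIn_le_hull S _ he)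
      (H35.Meet.centralizerIn_hull_le S _ (H93.mem_centralizerIn.2
        ⟨S.mul_mem (S.inv_mem (S.mul_mem (hVS (a z).2) he.1)) (hψ.le_right (hψ.map_mem (hVJ z.2))), fun y hy => ?_⟩)),
      by group⟩
    obtain ⟨x, hx, rfl⟩ := hψH.surj hy
    have h1 := hψ.map_conj (hVJ z.2) (hHJ hx)
    rw [hψv _ (H93.mem_normalizerIn_conj (hVh z z.2) hx), hee x hx, ← hψv x hx] at h1
    calc (((a z : V) : Ω) * e)⁻¹ * ψ z * ψ x * ((((a z : V) : Ω) * e)⁻¹ * ψ z)⁻¹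
        = (((a z : V) : Ω) * e)⁻¹ * (ψ z * ψ x * (ψ z)⁻¹) * (((a z : V) : Ω) * e) := by group
      _ = ψ x := by rw [← h1]; group
  have hR : R = J := by
    have hle : R ≤ J := by
      obtain ⟨χ, hχ, -, hχv⟩ := id hψ
      have hcl : J ≤ (J.comap χ).map J.subtype := by
        conv_lhs => rw [hJ]
        refine sup_le (fun x hx => ⟨⟨x, hHJ hx⟩, Subgroup.mem_comap.2 ?_, rfl⟩)
          fun x hx => ⟨⟨x, hVJ hx⟩, Subgroup.mem_comap.2 ?_, rfl⟩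
        · rw [hχv]; exact hHJ (hψH.map_mem hx)
        · rw [hχv]
          obtain ⟨h, hh, he⟩ := hψz ⟨x, hx⟩
          exact he ▸ J.mul_mem (hVJ (a _).2) (hHJ hh)
      intro y hy
      obtain ⟨x, hx, rfl⟩ := hψ.surj hy
      obtain ⟨w, hw, rfl⟩ := hcl hx
      exact hχv w ▸ hw
    exact Subgroup.eq_of_le_of_card_ge hle hψ.card_eq.le
  rw [hR] at hψ
  obtain ⟨b₀, hb₀, hb₀e⟩ := hψ.exists_aut
  have : Finite (MulAut J) := Finite.of_injective (fun e : MulAut J => (e : _ → _)) DFunLike.coe_injective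
  have haQp : (orderOf aQ).Coprime p :=
    coprime_of_intertwine (f := fun x : ↥W => (⟨x, hWV' x.2⟩ : V))
      (fun x y e => Subtype.ext (congrArg (fun z : V => (z : Ω)) e))
      (fun x => Subtype.ext (((haQe x).trans (hfQe ⟨x, hWV' x.2⟩ (hWT x.2))).symm)) hap
  have hWJ : W ≤ J := hWV'.trans hVJ
  obtain ⟨m, hbp, hbQ⟩ := H24.Meet.exists_coprime_pow (p := p) (fun x : ↥W => (⟨x, hWJ x.2⟩ : J))
    (a := aQ) (b := b₀) (fun x => Subtype.ext ((hb₀e _).trans ((hψv _ (H94.Meet.le_hull S _ x.2)).trans (hgQ x))))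
    haQp
  obtain ⟨b, hbdef⟩ : ∃ b, b = b₀ ^ m := ⟨_, rfl⟩
  rw [← hbdef] at hbp hbQ
  have hbF : b ∈ F.autGroup J := hbdef ▸ pow_mem hb₀ m
  have hJN : J ≤ Subgroup.normalizer (T : Set Ω) := hJS.trans (H93.StronglyClosed.le_normalizer hT)
  have hb₀H : ∀ (n : ℕ) (x : J), (x : Ω) ∈ hull S W →
      (((b₀ ^ n) x : J) : Ω) ∈ hull S W ∧ (x : Ω)⁻¹ * (((b₀ ^ n) x : J) : Ω) ∈ T := by
    intro n
    induction n with
    | zero => intro x hx; simpa using hx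
    | succ n ih =>
      intro x hx
      obtain ⟨h1, h2⟩ := ih x hx
      rw [pow_succ', MulAut.mul_apply, hb₀e, hψv _ h1]
      exact ⟨hg.map_mem h1, cong_trans h2 (hgc _ h1)⟩
  have hsupN : J ≤ Subgroup.normalizer ((hull S W ⊔ T : Subgroup Ω) : Set Ω) := by
    intro x hx
    have : Finite ↥(hull S W ⊔ T) := H96.finite_of_le (sup_le hHS hT.1)
    refine H94.mem_normalizer_of_forall_conj_mem fun y hy => ?_
    have hle : hull S W ⊔ T ≤ (hull S W ⊔ T).comap (MulAut.conj x).toMonoidHom := by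
      refine sup_le (fun h hh => Subgroup.mem_sup_left ?_)
        fun t ht => Subgroup.mem_sup_right (H93.StronglyClosed.conj_mem hT (hJS hx) ht)
      have hle' : J ≤ Subgroup.normalizer (hull S W : Set Ω) :=
        hJ ▸ sup_le Subgroup.le_normalizer fun z hz => (hVh z hz).2
      exact (Subgroup.mem_normalizer_iff.1 (hle' hx) h).1 hh
    exact hle hy
  have hb₀mod : ∀ x : J, (x : Ω)⁻¹ * ((b₀ x : J) : Ω) ∈ hull S W ⊔ T := by
    intro x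
    rw [hb₀e]
    have hψ' : Mor F (hull S W ⊔ V) J ψ := hJ ▸ hψ
    refine H24.Meet.cong_sup hψ' (hJ ▸ hsupN) (fun y hy => ?_) (fun z hz => ?_) (hJ.le x.2)
    · exact Subgroup.mem_sup_left ((hull S _).mul_mem ((hull S _).inv_mem hy) (hψH.map_mem hy))
    · obtain ⟨h, hh, he⟩ := hψz ⟨z, hz⟩
      rw [show ψ z = _ from he, ← mul_assoc]
      exact Subgroup.mul_mem _ (Subgroup.mem_sup_right (hac ⟨z, hz⟩)) (Subgroup.mem_sup_left hh)
  have hbc : CongT T J b := by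
    refine congT_of_coprime hS hJS hHJ hbp (fun x hx => hbdef ▸ (hb₀H m x hx).2) (fun x => ?_) (fun x hx => hJN hx)
      fun x hx => H93.StronglyClosed.aut_mem hT hJS hbF _ hx
    have h1 := H24.Meet.cong_pow hb₀mod m x
    rw [← hbdef, ← SetLike.mem_coe,
      Subgroup.coe_mul_of_left_le_normalizer_right _ T (hHS.trans (H93.StronglyClosed.le_normalizer hT))] at h1
    obtain ⟨c, hc', t, ht, he⟩ := h1
    exact ⟨c, hc', t, ht, he.symm⟩
  obtain ⟨fb, hfb, hfbe⟩ := H93.exists_mor_of_aut hJS hbF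
  have hbQ' : ∀ q : ↥W, fb q = ((a ⟨q, hWV' q.2⟩ : V) : Ω) := fun q =>
    (hfbe ⟨q, hWJ q.2⟩).trans ((congrArg Subtype.val (hbQ q)).trans
      ((haQe q).trans (hfQe ⟨q, hWV' q.2⟩ (hWT q.2))))
  -- it stabilizes `V`
  have hbV : ∀ z ∈ V, fb z ∈ V := by
    intro z hz
    have hd : ((a ⟨z, hz⟩ : V) : Ω)⁻¹ * fb z ∈ W := by
      refine hWc.2 _ (H93.isConj_refl F hWS) (H93.mem_centralizerIn.2 ⟨?_, fun q hq => ?_⟩)
      · refine cong_trans (cong_symm (hac ⟨z, hz⟩)) ?_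
        rw [hfbe ⟨z, hVJ hz⟩]
        exact hbc ⟨z, hVJ hz⟩
      · obtain ⟨w, hw, hwq⟩ := hfaQ.surj hq
        have hwq' : q = ((a ⟨w, hWV' hw⟩ : V) : Ω) := hwq.symm.trans (hfae ⟨w, hWV' hw⟩)
        have hzw : z * w * z⁻¹ ∈ W := H93.mem_normalizerIn_conj (hnW z hz) hw
        have h1 := hfb.map_conj (hVJ hz) (hWJ hw)
        rw [hbQ' ⟨w, hw⟩, hbQ' ⟨_, hzw⟩, show (⟨z * w * z⁻¹, hWV' hzw⟩ : V) = ⟨z, hz⟩ * ⟨w, hWV' hw⟩ * ⟨z, hz⟩⁻¹ from rfl,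
          map_mul, map_mul, map_inv, Subgroup.coe_mul, Subgroup.coe_mul, Subgroup.coe_inv, ← hwq'] at h1
        calc ((a ⟨z, hz⟩ : V) : Ω)⁻¹ * fb z * q * (((a ⟨z, hz⟩ : V) : Ω)⁻¹ * fb z)⁻¹
            = ((a ⟨z, hz⟩ : V) : Ω)⁻¹ * (fb z * q * (fb z)⁻¹) * ((a ⟨z, hz⟩ : V) : Ω) := by group
          _ = q := by rw [← h1]; group
    have := V.mul_mem (a ⟨z, hz⟩).2 (hWV' hd)
    rwa [mul_inv_cancel_left] at this
  obtain ⟨V₂, -, hfbV⟩ := hfb.restrict hVJ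
  obtain rfl : V₂ = V := Subgroup.eq_of_le_of_card_ge (fun y hy => by
    obtain ⟨x, hx, rfl⟩ := hfbV.surj hy
    exact hbV x hx) hfbV.card_eq.le
  obtain ⟨a', ha', ha'e⟩ := hfbV.exists_aut
  -- the restriction to the set is good and agrees with the given one on the centric subgroup
  have ha'c : CongT T V₂ a' := fun x => by
    rw [ha'e, hfbe ⟨x, hVJ x.2⟩]
    exact hbc ⟨x, hVJ x.2⟩
  have ha'p : (orderOf a').Coprime p :=
    coprime_of_intertwine (f := fun x : V₂ => (⟨x, hVJ x.2⟩ : J))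
      (fun x y e => Subtype.ext (congrArg (fun z : J => (z : Ω)) e))
      (fun x => Subtype.ext ((hfbe _).symm.trans (ha'e x).symm)) hbp
  have hWW : W ⊓ T = W := inf_eq_left.2 hWT
  have ha'E : InE E V₂ a' := by
    refine (inE_sup hS hE hWV' hV (by rwa [hWW]) ha' ha'p (a := aQ) fun x => ?_).2 ⟨fQ₀, by rwa [hWW],
      fun x _ => (haQe x).symm⟩
    rw [ha'e, hbQ' x]
    exact ((haQe x).trans (hfQe ⟨x, hWV' x.2⟩ (hWT x.2))).symm
  have hagree : ∀ x : V₂, (x : Ω) ∈ W → a x = a' x := fun x hx =>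
    Subtype.ext (((ha'e x).trans (hbQ' ⟨x, hx⟩)).symm)
  obtain ⟨z, hzW, hzc, hza⟩ :=
    good_eq_conj hS hE hWc hWV hV hc ha (GoodAut.base hc ha' hVS ha'c ha'p ha'E) hagree
  -- the restriction to the hull
  obtain ⟨H₂, -, hfbH⟩ := hfb.restrict hHJ
  obtain rfl : H₂ = hull S W := Subgroup.eq_of_le_of_card_ge (fun y hy => by
    obtain ⟨x, hx, rfl⟩ := hfbH.surj hy
    rw [hfbe ⟨x, hHJ hx⟩, hbdef]
    exact (hb₀H m ⟨x, hHJ hx⟩ hx).1) hfbH.card_eq.le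
  obtain ⟨β, hβ, hβe⟩ := hfbH.exists_aut
  have hHT : hull S W ⊓ T = W :=
    le_antisymm (fun y hy => hWc.mem_of_hull hT.1 hy.1 hy.2) (le_inf (H94.Meet.le_hull S W) hWT)
  have hcl : climb S T (hull S W) = hull S W := by
    refine le_antisymm (sup_le le_rfl fun s hs => ?_) le_climb
    exact H94.Meet.centralizerIn_le_hull S W
      (H93.mem_centralizerIn.2 ⟨hs.1.1, fun q hq => hs.2.1 q (by rw [hHT]; exact hq)⟩)
  have hfbC : Mor F (climb S T (hull S W)) (climb S T (hull S W)) fb := by rw [hcl]; exact hfbH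
  have := H96.finite_of_le (hfbC.le_left)
  obtain ⟨β', hβ', hβ'e⟩ := hfbC.exists_aut
  have hβH : InH F E (hull S W) β := by
    refine ⟨hβ, ⟨β', hβ', fun y => ?_, fun x => (hβ'e _).trans (hβe x).symm⟩, fQ₀, by rwa [hHT], fun x hx => ?_⟩
    · rw [hβ'e, hfbe ⟨y, hHJ (hcl.le y.2)⟩]
      exact hbc ⟨y, hHJ (hcl.le y.2)⟩
    · have hxW : (x : Ω) ∈ W := hWc.mem_of_hull hT.1 x.2 hx
      rw [hβe, hbQ' ⟨x, hxW⟩, hfQe ⟨x, hWV' hxW⟩ hx]
  have hβp : (orderOf β).Coprime p :=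
    coprime_of_intertwine (f := fun x : ↥(hull S W) => (⟨x, hHJ x.2⟩ : J))
      (fun x y e => Subtype.ext (congrArg (fun z : J => (z : Ω)) e))
      (fun x => Subtype.ext ((hfbe _).symm.trans (hβe x).symm)) hbp
  subst hJ
  refine ⟨b, β, z, hbF, hbp, hbc, hβH, hβp, fun y hy => ?_, hzW, hzc, fun x hx => ?_⟩
  · exact (hfbe ⟨y, hy⟩).symm.trans (hβe y).symm
  · have hy : z * (x : Ω) * z⁻¹ ∈ V₂ := V₂.mul_mem (V₂.mul_mem (hWV' hzW) x.2) (V₂.inv_mem (hWV' hzW))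
    rw [hza x ⟨_, hy⟩ rfl, ha'e]
    exact hfbe ⟨_, hx⟩

end Cfsg.Agent.H35.ProdLift
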