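import Cfsg.Agent.H24.MaxClass
import Cfsg.Agent.H24.MaxExponent
import Cfsg.Prelude.Def_PLocal
import Mathlib

set_option autoImplicit false

/-!
Groups of maximal class and uniserial action.
-/

namespace Cfsg.Agent.H35

open Subgroup
open scoped commutatorElement

variable {G : Type*} [Group G] [Finite G] {p : ℕ} [hp : Fact p.Prime]

/-- A `p`-group of smaller order multiplies by at least `p`. -/
theorem mul_card_le_of_lt {L : Type*} [Group L] [Finite L] {H K : Subgroup L}
    (hK : IsPGroup p K) (h : H < K) : p * Nat.card H ≤ Nat.card K := by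
  obtain ⟨i, hi⟩ := IsPGroup.iff_card.1 (hK.to_le h.le)
  obtain ⟨j, hj⟩ := IsPGroup.iff_card.1 hK
  rw [hi, hj, ← pow_succ']
  refine Nat.pow_le_pow_right hp.out.pos ?_
  by_contra hle
  exact h.ne (eq_of_le_of_card_ge h.le (by rw [hi, hj]; exact Nat.pow_le_pow_right hp.out.pos (by omega)))

/-- Orders in the lower central series of a group of maximal class. -/
theorem card_lowerCentralSeries_of_max_class (n : ℕ) (hG : Nat.card G = p ^ n)
    (hcl : Group.nilpotencyClass G = n - 1) (hn : 3 ≤ n) (i : ℕ) (hi1 : 1 ≤ i) (hi : i ≤ n - 1) :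
    Nat.card ((⊤ : Subgroup G).lowerCentralSeries i) = p ^ (n - 1 - i) := by
  have hP : IsPGroup p G := IsPGroup.of_card hG
  have : Group.IsNilpotent G := hP.isNilpotent
  set γ := (⊤ : Subgroup G).lowerCentralSeries with hγ
  have hbot : γ (n - 1) = ⊥ :=
    Subgroup.lowerCentralSeries_eq_bot_iff_nilpotencyClass_le.2 hcl.le
  have hlt : ∀ j < n - 1, γ (j + 1) < γ j := by
    intro j hj
    refine lt_of_le_of_ne (Subgroup.lowerCentralSeries_antitone _ (Nat.le_succ j)) fun he => ?_
    have hstab : ∀ m, γ (j + m) = γ j := by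
      intro m
      induction m with
      | zero => rfl
      | succ m ih =>
        show ⁅γ (j + m), (⊤ : Subgroup G)⁆ = γ j
        rw [ih]
        exact he
    have h1 := hstab (n - 1 - j)
    rw [show j + (n - 1 - j) = n - 1 by omega, hbot] at h1
    have h2 := Subgroup.lowerCentralSeries_eq_bot_iff_nilpotencyClass_le.1 h1.symm
    omega
  have hlow : ∀ m, m ≤ n - 1 → p ^ m ≤ Nat.card (γ (n - 1 - m)) := by
    intro m
    induction m with
    | zero => intro _; rw [Nat.sub_zero, hbot, card_bot, pow_zero]
    | succ m ih =>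
      intro hm
      have h1 := mul_card_le_of_lt (p := p) (hP.to_subgroup _) (hlt (n - 1 - (m + 1)) (by omega))
      rw [show n - 1 - (m + 1) + 1 = n - 1 - m by omega] at h1
      rw [pow_succ']
      exact le_trans (Nat.mul_le_mul_left p (ih (by omega))) h1
  have hup : ∀ m, 1 + m ≤ n - 1 → Nat.card (γ (1 + m)) ≤ p ^ (n - 1 - (1 + m)) := by
    intro m
    induction m with
    | zero =>
      intro _
      have h1 := (Cfsg.Agent.H24.index_commutator_of_max_class G p n hG (by omega) hcl).1
      have h2 := (commutator G).card_mul_index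
      rw [h1, hG, show n = (n - 2) + 2 by omega, pow_add p (n - 2) 2] at h2
      rw [hγ, top_lowerCentralSeries_one, Nat.eq_of_mul_eq_mul_right (pow_pos hp.out.pos 2) h2]
      exact le_of_eq (congrArg _ (by omega))
    | succ m ih =>
      intro hm
      have h1 := mul_card_le_of_lt (p := p) (hP.to_subgroup _) (hlt (1 + m) (by omega))
      refine Nat.le_of_mul_le_mul_left ?_ hp.out.pos
      rw [← pow_succ']
      refine h1.trans ((ih (by omega)).trans ?_)
      exact Nat.pow_le_pow_right hp.out.pos (by omega)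
  have h1 := hlow (n - 1 - i) (by omega)
  rw [show n - 1 - (n - 1 - i) = i by omega] at h1
  have h2 := hup (i - 1) (by omega)
  rw [show 1 + (i - 1) = i by omega] at h2
  exact le_antisymm h2 h1

/-- Normal subgroups of index at least `p ^ 2` in a group of maximal class. -/
theorem eq_lowerCentralSeries_of_max_class (n : ℕ) (hG : Nat.card G = p ^ n)
    (hcl : Group.nilpotencyClass G = n - 1) (hn : 3 ≤ n) (N : Subgroup G) [N.Normal] (r : ℕ)
    (hr : 2 ≤ r) (hN : N.index = p ^ r) : N = (⊤ : Subgroup G).lowerCentralSeries (r - 1) := by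
  have hrn : r ≤ n := by
    have h1 := N.index_dvd_card
    rw [hN, hG] at h1
    exact (Nat.pow_dvd_pow_iff_le_right hp.out.one_lt).1 h1
  have hq : Nat.card (G ⧸ N) = p ^ r := hN
  have : Group.IsNilpotent (G ⧸ N) := (IsPGroup.of_card hq).isNilpotent
  have h1 := Subgroup.lowerCentralSeries_eq_bot_iff_nilpotencyClass_le.2
    (Cfsg.Agent.H24.class_le_pred (G ⧸ N) p r hq hr)
  have h2 : ((⊤ : Subgroup G).lowerCentralSeries (r - 1)).map (QuotientGroup.mk' N) = ⊥ := by
    rw [map_lowerCentralSeries, map_top_of_surjective _ (QuotientGroup.mk'_surjective N)]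
    exact h1
  rw [Subgroup.map_eq_bot_iff, QuotientGroup.ker_mk'] at h2
  refine (eq_of_le_of_card_ge h2 ?_).symm
  have h3 := N.card_mul_index
  rw [hN, hG, show n = (n - r) + r by omega, pow_add] at h3
  rw [card_lowerCentralSeries_of_max_class n hG hcl hn (r - 1) (by omega) (by omega),
    Nat.eq_of_mul_eq_mul_right (pow_pos hp.out.pos r) h3]
  exact Nat.pow_le_pow_right hp.out.pos (by omega)

/-- The number of subgroups of order `p` of a group of order `p ^ 2` and exponent `p`. -/
theorem card_subgroups_of_exponent {Q : Type*} [Group Q] [Finite Q] (hQ : Nat.card Q = p ^ 2)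
    (he : ∀ x : Q, x ^ p = 1) : Nat.card {H : Subgroup Q // Nat.card H = p} = p + 1 := by
  classical
  have := Fintype.ofFinite Q
  let f : {x : Q // x ≠ 1} → {H : Subgroup Q // Nat.card H = p} := fun x =>
    ⟨zpowers x.1, by rw [Nat.card_zpowers, orderOf_eq_prime (he _) x.2]⟩
  have hfib : ∀ H : {H : Subgroup Q // Nat.card H = p}, Nat.card {x // f x = H} = p - 1 := by
    intro H
    have e : {x // f x = H} ≃ {x : H.1 // x ≠ 1} :=
      { toFun := fun x => ⟨⟨x.1.1, by
          have h : zpowers x.1.1 = H.1 := congrArg Subtype.val x.2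
          rw [← h]; exact mem_zpowers _⟩, fun h => x.1.2 (congrArg Subtype.val h)⟩
        invFun := fun x => ⟨⟨x.1.1, fun h => x.2 (Subtype.ext h)⟩, Subtype.ext (by
          refine eq_of_le_of_card_ge (zpowers_le.2 x.1.2) ?_
          rw [H.2, Nat.card_zpowers, orderOf_eq_prime (he _) fun h => x.2 (Subtype.ext h)])⟩
        left_inv := fun x => rfl
        right_inv := fun x => rfl }
    rw [Nat.card_congr e]
    have : Fintype H.1 := Fintype.ofFinite _
    rw [Nat.card_eq_fintype_card, Fintype.card_subtype_compl, Fintype.card_subtype_eq,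
      ← Nat.card_eq_fintype_card, H.2]
  have h1 : Nat.card {x : Q // x ≠ 1} = p ^ 2 - 1 := by
    rw [Nat.card_eq_fintype_card, Fintype.card_subtype_compl, Fintype.card_subtype_eq,
      ← Nat.card_eq_fintype_card, hQ]
  have : Fintype {H : Subgroup Q // Nat.card H = p} := Fintype.ofFinite _
  rw [← Nat.card_congr (Equiv.sigmaFiberEquiv f), Nat.card_sigma, Finset.sum_congr rfl fun H _ => hfib H,
    Finset.sum_const, Finset.card_univ, smul_eq_mul, ← Nat.card_eq_fintype_card] at h1
  have h2 : p ^ 2 - 1 = (p + 1) * (p - 1) := Nat.sq_sub_sq p 1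
  rw [h2] at h1
  exact Nat.eq_of_mul_eq_mul_right (by have := hp.out.two_le; omega) h1

theorem card_maximal_normal_of_max_class (n : ℕ) (hG : Nat.card G = p ^ n)
    (hcl : Group.nilpotencyClass G = n - 1) (hn : 3 ≤ n) :
    Nat.card {N : Subgroup G // N.Normal ∧ N.index = p} = p + 1 := by
  have hP : IsPGroup p G := IsPGroup.of_card hG
  have hidx := (Cfsg.Agent.H24.index_commutator_of_max_class G p n hG (by omega) hcl).1
  set D := commutator G with hD
  have hQ : Nat.card (G ⧸ D) = p ^ 2 := hidx
  set q := QuotientGroup.mk' D with hq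
  have hqs : Function.Surjective q := QuotientGroup.mk'_surjective D
  have hexp : ∀ x : G ⧸ D, x ^ p = 1 := by
    intro x
    by_contra hx
    obtain ⟨g, rfl⟩ := hqs x
    have hord : orderOf (q g) = p ^ 2 := by
      obtain ⟨i, hi, hi'⟩ := (Nat.dvd_prime_pow hp.out).1 (hQ ▸ orderOf_dvd_natCard (q g))
      interval_cases i
      · exact absurd (show q g ^ p = 1 by rw [(orderOf_eq_one_iff (x := q g)).1 (by simpa using hi'), one_pow]) hx
      · exact absurd (show q g ^ p = 1 by rw [← pow_one p, ← hi', pow_orderOf_eq_one]) hx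
      · exact hi'
    have htop : zpowers (q g) = ⊤ := eq_top_of_card_eq _ (by rw [Nat.card_zpowers, hord, hQ])
    have hsup : zpowers g ⊔ D = ⊤ := by
      have h1 := congrArg (comap q) htop
      rwa [← MonoidHom.map_zpowers, comap_map_eq, comap_top, hq, QuotientGroup.ker_mk'] at h1
    have : Group.IsNilpotent G := hP.isNilpotent
    have hz : zpowers g = ⊤ := by
      by_contra hne
      obtain ⟨M, hM, hle⟩ := (eq_top_or_exists_le_coatom (zpowers g)).resolve_left hne
      exact hM.1 (top_le_iff.1 (hsup ▸ sup_le hle (Cfsg.Agent.H24.coatom_spec hP hM).2.2))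
    have hc : IsMulCommutative G := ⟨⟨fun a b => by
      obtain ⟨i, rfl⟩ := (hz ▸ mem_top a : a ∈ zpowers g)
      obtain ⟨j, rfl⟩ := (hz ▸ mem_top b : b ∈ zpowers g)
      rw [← zpow_add, ← zpow_add, add_comm]⟩⟩
    have h1 := Cfsg.Agent.H24.class_le_one_of_comm hc
    omega
  rw [← card_subgroups_of_exponent hQ hexp]
  have hDN : ∀ N : Subgroup G, N.index = p → D ≤ N := by
    intro N hN
    have hM : IsCoatom N := by
      refine ⟨fun h => ?_, fun K hK => ?_⟩
      · rw [h, index_top] at hN
        exact hp.out.ne_one hN.symm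
      · have h1 := index_dvd_of_le hK.le
        rw [hN] at h1
        rcases hp.out.eq_one_or_self_of_dvd _ h1 with h | h
        · exact index_eq_one.1 h
        · exact absurd (eq_of_le_of_card_ge hK.le (by
            have e1 := N.card_mul_index
            have e2 := K.card_mul_index
            rw [hN] at e1; rw [h] at e2
            exact (Nat.eq_of_mul_eq_mul_right hp.out.pos (e2.trans e1.symm)).le)) hK.ne
    exact (Cfsg.Agent.H24.coatom_spec hP hM).2.2
  have hcard : ∀ K : Subgroup (G ⧸ D), Nat.card K = p ↔ K.index = p := by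
    intro K
    have h := K.card_mul_index
    rw [hQ, pow_two] at h
    constructor
    · intro hK; rw [hK] at h; exact Nat.eq_of_mul_eq_mul_left hp.out.pos h
    · intro hK; rw [hK] at h; exact Nat.eq_of_mul_eq_mul_right hp.out.pos h
  refine Nat.card_congr
    { toFun := fun N => ⟨N.1.map q, by
        rw [hcard, index_map_eq _ hqs (by rw [hq, QuotientGroup.ker_mk']; exact hDN _ N.2.2)]
        exact N.2.2⟩
      invFun := fun K => ⟨K.1.comap q, by
        have hc := IsPGroup.isMulCommutative_of_card_eq_prime_sq hQ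
        have hKn : K.1.Normal := ⟨fun x hx g => by
          rwa [hc.is_comm.comm g x, mul_inv_cancel_right]⟩
        exact ⟨hKn.comap q, by rw [index_comap_of_surjective _ hqs]; exact (hcard _).1 K.2⟩⟩
      left_inv := fun N => Subtype.ext (by
        show (N.1.map q).comap q = N.1
        rw [comap_map_eq, hq, QuotientGroup.ker_mk', sup_eq_left]
        exact hDN _ N.2.2)
      right_inv := fun K => Subtype.ext (map_comap_eq_self_of_surjective hqs K.1) }

/-! ## Uniserial action -/

section Uniserial

variable {L : Type*} [Group L] [Finite L]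

/-- A maximal invariant proper subgroup has index `p` and contains the commutator. -/
theorem uniserial_step {U A M : Subgroup L} (hU : IsPGroup p U) (hA : IsPGroup p A)
    (hAU : A ≤ normalizer (U : Set L)) (hAM : A ≤ normalizer (M : Set L)) (hMU : M < U)
    (hmax : ∀ K : Subgroup L, M ≤ K → K < U → A ≤ normalizer (K : Set L) → K = M) :
    Nat.card U = p * Nat.card M ∧ ⁅U, A⁆ ≤ M ∧ U ≤ normalizer (M : Set L) := by
  have hUM : U ≤ normalizer (M : Set L) := by
    have h1 : A ≤ normalizer ((U ⊓ normalizer (M : Set L) : Subgroup L) : Set L) :=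
      le_trans (le_inf hAU (hAM.trans le_normalizer)) (inf_normalizer_le_normalizer_inf)
    rcases (inf_le_left : U ⊓ normalizer (M : Set L) ≤ U).lt_or_eq with hlt | heq
    · exfalso
      have he := hmax _ (le_inf hMU.le le_normalizer) hlt h1
      have : Group.IsNilpotent U := hU.isNilpotent
      have hlt' : M.subgroupOf U < ⊤ := by
        rw [lt_top_iff_ne_top, Ne, subgroupOf_eq_top]
        exact hMU.not_ge
      refine (Group.normalizerCondition_of_isNilpotent (G := U) _ hlt').not_ge fun x hx => ?_
      show (x : L) ∈ M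
      rw [← he]
      refine ⟨x.2, le_normalizer_iff.2 (fun a ha y hy => ?_) (mem_zpowers (x : L))⟩
      obtain ⟨i, rfl⟩ := ha
      have hxi : x ^ i ∈ normalizer (M.subgroupOf U : Set U) := zpow_mem hx i
      have := (hxi ⟨y, hMU.le hy⟩).1 hy
      simpa [mem_subgroupOf] using this
    · exact inf_eq_left.1 heq
  set P := U ⊔ A with hP
  have hPp : IsPGroup p P := by
    rw [hP, sup_comm]
    exact hA.to_sup_of_normal_right' hU hAU
  haveI : (U.subgroupOf P).Normal :=
    normal_subgroupOf_of_le_normalizer (sup_le le_normalizer hAU)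
  haveI : (M.subgroupOf P).Normal :=
    normal_subgroupOf_of_le_normalizer (sup_le hUM hAM)
  obtain ⟨K, hKn, hMK, hKU, hcard, hcomm, hnle⟩ := Cfsg.Agent.H24.exists_normal_below hPp
    (N := M.subgroupOf P) (M := U.subgroupOf P)
    (fun x hx => hMU.le hx) (fun h => hMU.not_ge (fun x hx => by
      have : (⟨x, mem_sup_left hx⟩ : P) ∈ U.subgroupOf P := hx
      rw [← h] at this
      exact this))
  set K' := K.map P.subtype with hK'
  have hK'A : A ≤ normalizer (K' : Set L) := by
    refine le_trans ?_ (le_normalizer_map P.subtype)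
    intro a ha
    refine ⟨⟨a, mem_sup_right ha⟩, ?_, rfl⟩
    rw [SetLike.mem_coe, normalizer_eq_top_iff.2 hKn]; exact mem_top _
  have hK'le : K' ≤ U := by
    rintro _ ⟨x, hx, rfl⟩
    exact hKU hx
  have hK'ne : K' ≠ U := fun h => hnle fun x hx => by
    obtain ⟨y, hy, he⟩ := (h.symm ▸ (show (x : L) ∈ U from hx) : (x : L) ∈ K')
    exact (Subtype.ext he : y = x) ▸ hy
  have hMK' : M ≤ K' := fun x hx => ⟨⟨x, mem_sup_left (hMU.le hx)⟩, hMK hx, rfl⟩
  have he := hmax K' hMK' (lt_of_le_of_ne hK'le hK'ne) hK'A
  refine ⟨?_, ?_, hUM⟩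
  · rw [← he, hK', card_map_of_injective P.subtype_injective, ← hcard]
    exact (Nat.card_congr (subgroupOfEquivOfLe le_sup_left).toEquiv).symm
  · rw [← he]
    refine commutator_le.2 fun u hu a ha => ?_
    have h1 : ⁅(⟨a, mem_sup_right ha⟩ : P), ⟨u, mem_sup_left hu⟩⁆ ∈ K :=
      hcomm (commutator_mem_commutator (mem_top _) (show (⟨u, mem_sup_left hu⟩ : P) ∈ U.subgroupOf P from hu))
    have h2 := inv_mem h1
    rw [commutatorElement_inv] at h2
    exact ⟨_, h2, rfl⟩

/-- An invariant subgroup always has a proper commutator, normalised by `A`. -/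
theorem exists_max_invariant {U A : Subgroup L} (hAU : A ≤ normalizer (U : Set L))
    {H : Subgroup L} (hHU : H < U) (hAH : A ≤ normalizer (H : Set L)) :
    ∃ M : Subgroup L, H ≤ M ∧ M < U ∧ A ≤ normalizer (M : Set L) ∧
      ∀ K : Subgroup L, M ≤ K → K < U → A ≤ normalizer (K : Set L) → K = M := by
  obtain ⟨M, ⟨h1, h2, h3⟩, hmax⟩ := Set.Finite.exists_maximalFor (fun K : Subgroup L => Nat.card K)
    {K : Subgroup L | H ≤ K ∧ K < U ∧ A ≤ normalizer (K : Set L)} (Set.toFinite _)
    ⟨H, le_rfl, hHU, hAH⟩
  exact ⟨M, h1, h2, h3, fun K hK1 hK2 hK3 =>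
    (eq_of_le_of_card_ge hK1 (hmax (j := K) ⟨h1.trans hK1, hK2, hK3⟩ (card_le_of_le hK1))).symm⟩

theorem iterCommutator_props {N A : Subgroup L} (hN : IsPGroup p N) (hA : IsPGroup p A)
    (hAN : A ≤ normalizer (N : Set L)) (i : ℕ) :
    Cfsg.iterCommutator N A i ≤ N ∧ A ≤ normalizer (Cfsg.iterCommutator N A i : Set L) ∧
      (Cfsg.iterCommutator N A i ≠ ⊥ →
        Cfsg.iterCommutator N A (i + 1) < Cfsg.iterCommutator N A i) := by
  have main : ∀ U : Subgroup L, U ≤ N → A ≤ normalizer (U : Set L) → U ≠ ⊥ → ⁅U, A⁆ < U := by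
    intro U hUN hAU hne
    obtain ⟨M, -, hMU, hAM, hmax⟩ := exists_max_invariant hAU (bot_lt_iff_ne_bot.2 hne)
      (by rw [normalizer_eq_top]; exact le_top)
    exact lt_of_le_of_lt (uniserial_step (hN.to_le hUN) hA hAU hAM hMU hmax).2.1 hMU
  induction i with
  | zero => exact ⟨le_rfl, hAN, main N le_rfl hAN⟩
  | succ i ih =>
    have h1 : Cfsg.iterCommutator N A (i + 1) ≤ N :=
      (le_normalizer_iff_commutator_le_left.1 ih.2.1).trans ih.1
    have h2 : A ≤ normalizer (Cfsg.iterCommutator N A (i + 1) : Set L) :=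
      normalizer_commutator_ge_right _ _
    exact ⟨h1, h2, main _ h1 h2⟩

theorem uniserial_iff {N A : Subgroup L} (hN : IsPGroup p N) (hA : IsPGroup p A)
    (hAN : A ≤ normalizer (N : Set L)) (n : ℕ) (hn : Nat.card N = p ^ n) :
    ((∀ H : Subgroup L, H ≤ N → A ≤ normalizer (H : Set L) → H ≠ ⊥ → (⁅H, A⁆).relIndex H = p) ↔
        Cfsg.iterCommutator N A (n - 1) ≠ ⊥ ∨ n = 0) ∧
      ((∀ H : Subgroup L, H ≤ N → A ≤ normalizer (H : Set L) → H ≠ ⊥ → (⁅H, A⁆).relIndex H = p) →
        ∀ H : Subgroup L, H ≤ N → A ≤ normalizer (H : Set L) →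
          (∃ i ≤ n, H = Cfsg.iterCommutator N A i) ∧ N ≤ normalizer (H : Set L)) := by
  set C := Cfsg.iterCommutator N A with hC
  have hprop := fun i => iterCommutator_props hN hA hAN i
  have hCA : ∀ i, A ≤ normalizer (C i : Set L) := fun i => (hprop i).2.1
  have hCN : ∀ i, C i ≤ N := fun i => (hprop i).1
  have hup : ∀ i, i ≤ n → Nat.card (C i) ≤ p ^ (n - i) := by
    intro i
    induction i with
    | zero => intro _; rw [Nat.sub_zero, ← hn]; exact le_rfl
    | succ i ih =>
      intro hi
      by_cases hne : C i = ⊥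
      · have : C (i + 1) = ⊥ := by
          show ⁅C i, A⁆ = ⊥
          rw [hne, commutator_bot_left]
        rw [this, card_bot]
        exact Nat.one_le_pow _ _ hp.out.pos
      · refine Nat.le_of_mul_le_mul_left ?_ hp.out.pos
        rw [← pow_succ', show n - (i + 1) + 1 = n - i by omega]
        exact (mul_card_le_of_lt (hN.to_le (hCN i)) ((hprop i).2.2 hne)).trans (ih (by omega))
  -- consequences of a long chain
  have hlong : (C (n - 1) ≠ ⊥ ∨ n = 0) → (∀ i, i ≤ n → Nat.card (C i) = p ^ (n - i)) ∧
      ∀ H : Subgroup L, H ≤ N → A ≤ normalizer (H : Set L) → ∃ i ≤ n, H = C i := by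
    intro hne
    have hlow : ∀ m, m ≤ n → p ^ m ≤ Nat.card (C (n - m)) := by
      intro m
      induction m with
      | zero => intro _; rw [pow_zero]; exact Nat.card_pos
      | succ m ih =>
        intro hm
        have hne' : C (n - (m + 1)) ≠ ⊥ := by
          intro h
          rcases hne with hne | hne
          · apply hne
            have hmono : ∀ k, C (n - (m + 1) + k) = ⊥ := by
              intro k
              induction k with
              | zero => exact h
              | succ k ihk =>
                show ⁅C (n - (m + 1) + k), A⁆ = ⊥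
                rw [ihk, commutator_bot_left]
            have := hmono m
            rwa [show n - (m + 1) + m = n - 1 by omega] at this
          · omega
        have h1 := mul_card_le_of_lt (hN.to_le (hCN _)) ((hprop _).2.2 hne')
        rw [show n - (m + 1) + 1 = n - m by omega] at h1
        rw [pow_succ']
        exact (Nat.mul_le_mul_left p (ih (by omega))).trans h1
    have hcard : ∀ i, i ≤ n → Nat.card (C i) = p ^ (n - i) := fun i hi => le_antisymm (hup i hi) (by
      have := hlow (n - i) (by omega)
      rwa [show n - (n - i) = i by omega] at this)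
    refine ⟨hcard, fun H hHN hAH => ?_⟩
    by_contra hno
    push Not at hno
    have hall : ∀ i, i ≤ n → H < C i := by
      intro i
      induction i with
      | zero => intro _; exact lt_of_le_of_ne hHN (hno 0 (Nat.zero_le _))
      | succ i ih =>
        intro hi
        obtain ⟨M, hHM, hMC, hAM, hmax⟩ := exists_max_invariant (hCA i) (ih (by omega)) hAH
        obtain ⟨hc, hle, -⟩ := uniserial_step (hN.to_le (hCN i)) hA (hCA i) hAM hMC hmax
        have heq : C (i + 1) = M := by
          refine eq_of_le_of_card_ge hle ?_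
          rw [hcard i (by omega), show n - i = (n - (i + 1)) + 1 by omega, pow_succ'] at hc
          rw [← Nat.eq_of_mul_eq_mul_left hp.out.pos hc]
          exact (hcard (i + 1) hi).ge
        exact lt_of_le_of_ne (heq ▸ hHM) (hno _ hi)
    have h1 := hall n le_rfl
    have h2 : C n = ⊥ := card_eq_one.1 (by rw [hcard n le_rfl, Nat.sub_self, pow_zero])
    rw [h2] at h1
    exact not_lt_bot h1
  have hfwd : (∀ H : Subgroup L, H ≤ N → A ≤ normalizer (H : Set L) → H ≠ ⊥ → (⁅H, A⁆).relIndex H = p) →
      C (n - 1) ≠ ⊥ ∨ n = 0 := by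
    intro hser
    rcases Nat.eq_zero_or_pos n with h0 | hpos
    · exact Or.inr h0
    have hc : ∀ i, i < n → Nat.card (C i) = p ^ (n - i) := by
      intro i
      induction i with
      | zero => intro _; rw [Nat.sub_zero, ← hn]; rfl
      | succ i ih =>
        intro hi
        have h1 := ih (by omega)
        have hne : C i ≠ ⊥ := fun h => by
          rw [h, card_bot] at h1
          exact (Nat.one_lt_pow (by omega : n - i ≠ 0) hp.out.one_lt).ne h1
        have h2 := hser (C i) (hCN i) (hCA i) hne
        have h3 : Nat.card (C i) = p * Nat.card (C (i + 1)) := by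
          have h4 := card_mul_index ((C (i + 1)).subgroupOf (C i))
          rw [Nat.card_congr (subgroupOfEquivOfLe ((hprop i).2.2 hne).le).toEquiv,
            show ((C (i + 1)).subgroupOf (C i)).index = p from h2] at h4
          rw [← h4, mul_comm]
        rw [h1, show n - i = (n - (i + 1)) + 1 by omega, pow_succ'] at h3
        exact (Nat.eq_of_mul_eq_mul_left hp.out.pos h3).symm
    left
    intro h
    have := hc (n - 1) (by omega)
    rw [h, card_bot] at this
    exact (Nat.one_lt_pow (by omega : n - (n - 1) ≠ 0) hp.out.one_lt).ne this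
  refine ⟨⟨hfwd, fun hne H hHN hAH hH => ?_⟩, fun hser H hHN hAH => ?_⟩
  · obtain ⟨hcard, hclass⟩ := hlong hne
    obtain ⟨i, hi, rfl⟩ := hclass H hHN hAH
    have hin : i < n := by
      rcases hi.lt_or_eq with h | h
      · exact h
      · exact absurd (card_eq_one.1 (by rw [hcard i hi, h, Nat.sub_self, pow_zero])) hH
    show (C (i + 1)).relIndex (C i) = p
    have h4 := card_mul_index ((C (i + 1)).subgroupOf (C i))
    rw [Nat.card_congr (subgroupOfEquivOfLe ((hprop i).2.2 hH).le).toEquiv, hcard i hi,
      hcard (i + 1) hin, show n - i = (n - (i + 1)) + 1 by omega, pow_succ] at h4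
    exact Nat.eq_of_mul_eq_mul_left (pow_pos hp.out.pos _) h4
  · obtain ⟨hcard, hclass⟩ := hlong (hfwd hser)
    obtain ⟨i, hi, rfl⟩ := hclass H hHN hAH
    refine ⟨⟨i, hi, rfl⟩, ?_⟩
    -- normal subgroups of `N ⊔ A` of each order
    set P := N ⊔ A with hP
    have hPp : IsPGroup p P := by
      rw [hP, sup_comm]
      exact hA.to_sup_of_normal_right' hN hAN
    haveI : (N.subgroupOf P).Normal :=
      normal_subgroupOf_of_le_normalizer (sup_le le_normalizer hAN)
    obtain ⟨K, hKn, hKN, hKcard⟩ := Cfsg.Agent.H24.exists_normal_le_card hPp (N := N.subgroupOf P) (k := n)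
      (by rw [Nat.card_congr (subgroupOfEquivOfLe le_sup_left).toEquiv, hn]) (j := n - i) (Nat.sub_le _ _)
    have hPK : P ≤ normalizer ((K.map P.subtype : Subgroup L) : Set L) := by
      refine le_trans ?_ (le_normalizer_map P.subtype)
      intro a ha
      refine ⟨⟨a, ha⟩, ?_, rfl⟩
      rw [SetLike.mem_coe, normalizer_eq_top_iff.2 hKn]; exact mem_top _
    obtain ⟨k, hk, hKk⟩ := hclass (K.map P.subtype)
      (by rintro _ ⟨x, hx, rfl⟩; exact hKN hx) (le_sup_right.trans hPK)
    have hik : k = i := by
      have h1 := congrArg (fun M : Subgroup L => Nat.card M) hKk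
      simp only [card_map_of_injective P.subtype_injective, hKcard, hcard k hk] at h1
      have := Nat.pow_right_injective hp.out.two_le h1
      omega
    rw [hik] at hKk
    rw [← hKk]
    exact le_sup_left.trans hPK

end Uniserial

end Cfsg.Agent.H35
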