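import Cfsg.Agent.H24.SmallRank
import Cfsg.Agent.H24.Huppert
import Cfsg.Prelude.Def_PLocal
import Mathlib

set_option autoImplicit false

/-!
Small `p`-groups: normal subgroups of type `(p,p)`, metacyclic groups, cyclic maximal subgroups.
-/

namespace Cfsg.Agent.H35

open Subgroup
open scoped commutatorElement

variable {R : Type*} [Group R] [Finite R] {p : ℕ} [hp : Fact p.Prime]

/-- In a cyclic group an element of order `p` generates all elements with `x ^ p = 1`. -/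
theorem mem_zpowers_of_isCyclic [IsCyclic R] {x y : R} (hx : orderOf x = p) (hy : y ^ p = 1) :
    y ∈ zpowers x := by
  classical
  have := Fintype.ofFinite R
  have h1 := IsCyclic.card_pow_eq_one_le (α := R) hp.out.pos
  by_contra hy'
  have h2 : ((zpowers x : Set R).toFinset ∪ {y}).card ≤ p := by
    refine le_trans (Finset.card_le_card fun a ha => ?_) h1
    rw [Finset.mem_filter]
    refine ⟨Finset.mem_univ _, ?_⟩
    rcases Finset.mem_union.1 ha with ha | ha
    · obtain ⟨i, rfl⟩ := Set.mem_toFinset.1 ha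
      have hxp : x ^ p = 1 := hx ▸ pow_orderOf_eq_one x
      rw [← zpow_natCast, zpow_comm, zpow_natCast, hxp, one_zpow]
    · rw [Finset.mem_singleton.1 ha, hy]
  rw [Finset.union_comm, ← Finset.insert_eq, Finset.card_insert_of_notMem (by simpa using hy'),
    ← Set.ncard_eq_toFinset_card', ← Nat.card_coe_set_eq] at h2
  have : Nat.card (zpowers x : Set R) = p := (Nat.card_zpowers x).trans hx
  omega

/-- `S0636`: a normal non-cyclic subgroup contains a normal subgroup of type `(p,p)`. -/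
theorem exists_normal_elementary_two_in (hp2 : p ≠ 2) (hR : IsPGroup p R) (S : Subgroup R) [S.Normal]
    (hS : ¬ IsCyclic S) :
    ∃ A : Subgroup R, A ≤ S ∧ A.Normal ∧ Cfsg.IsElementaryAbelian p A ∧ Nat.card A = p ^ 2 := by
  have hSp : IsPGroup p S := hR.to_subgroup S
  obtain ⟨A, hAn, -, hAe, hAc⟩ := Cfsg.Agent.H24.exists_normal_elementary_two S p hp2 hSp hS
  let V : Subgroup S :=
    { carrier := {x | x ∈ Subgroup.upperCentralSeries S 2 ∧ x ^ p = 1}
      one_mem' := ⟨one_mem _, one_pow p⟩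
      mul_mem' := fun {x y} hx hy => ⟨mul_mem hx.1 hy.1,
        Cfsg.Agent.H24.mul_pow_eq_one_of_class_two hp.out hp2 (by
          have := (Subgroup.mem_upperCentralSeries_succ_iff.1 hy.1) x
          rwa [Subgroup.upperCentralSeries_one] at this) hx.2 hy.2⟩
      inv_mem' := fun {x} hx => ⟨inv_mem hx.1, by rw [inv_pow, hx.2, inv_one]⟩ }
  haveI hVc : V.Characteristic := by
    refine characteristic_iff_le_comap.2 fun φ x hx => ⟨?_, ?_⟩
    · exact characteristic_iff_le_comap.1 (inferInstance : (Subgroup.upperCentralSeries S 2).Characteristic) φ hx.1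
    · show φ x ^ p = 1
      rw [← map_pow, hx.2, map_one]
  have hne : A ≠ ⊥ := fun h => by
    rw [h, card_bot] at hAc
    exact (Nat.one_lt_pow two_ne_zero hp.out.one_lt).ne hAc
  have hAV : A ≤ V := by
    intro a ha
    refine ⟨Subgroup.mem_upperCentralSeries_succ_iff.2 fun y => ?_, hAe a ha⟩
    rw [Subgroup.upperCentralSeries_one]
    set K := ⁅A, (⊤ : Subgroup S)⁆
    have hlt := Cfsg.Agent.H24.commutator_top_lt hSp hne
    rw [hAc, sq] at hlt
    have hK : Nat.card K ≤ p := Nat.le_of_mul_le_mul_left hlt hp.out.pos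
    by_cases hK1 : K = ⊥
    · have hy : ⁅a, y⁆ ∈ K := commutator_mem_commutator ha (mem_top y)
      rw [hK1, mem_bot] at hy
      rw [hy]
      exact one_mem _
    · have hinf := Cfsg.Agent.H24.inf_center_ne_bot hSp hK1
      have hdiv : p ≤ Nat.card (K ⊓ center S : Subgroup S) := by
        obtain ⟨k, hk⟩ := Cfsg.Agent.H24.exists_card_pow hSp (K ⊓ center S)
        rw [hk]
        rcases k with - | k
        · exact absurd (card_eq_one.1 hk) hinf
        · exact Nat.le_self_pow k.succ_ne_zero p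
      have heq : K ⊓ center S = K := eq_of_le_of_card_ge inf_le_left (hK.trans hdiv)
      have hy : ⁅a, y⁆ ∈ K := commutator_mem_commutator ha (mem_top y)
      rw [← heq] at hy
      exact hy.2
  have : p < Nat.card (V.map S.subtype) := by
    rw [card_map_of_injective S.subtype_injective]
    refine lt_of_lt_of_le ?_ (card_le_of_le hAV)
    rw [hAc]
    exact lt_self_pow₀ hp.out.one_lt one_lt_two
  obtain ⟨B, hBn, hBV, hBc, hBe, hBcard⟩ := Cfsg.Agent.H24.exists_normal_elementary_two_le hR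
    (V := V.map S.subtype) (by rintro _ ⟨x, hx, rfl⟩; exact (map_pow S.subtype x p).symm.trans (by rw [hx.2, map_one]))
    this
  exact ⟨B, hBV.trans (map_subtype_le _), hBn, ⟨hBc, hBe⟩, hBcard⟩

/-- `Ω₁` of a non-cyclic metacyclic group, `p` odd. -/
theorem omegaOne_of_metacyclic (hp2 : p ≠ 2) (hR : IsPGroup p R) (hm : Cfsg.IsMetacyclic R)
    (hnc : ¬ IsCyclic R) :
    Cfsg.IsElementaryAbelian p (Cfsg.omegaOne p (⊤ : Subgroup R)) ∧
      Nat.card (Cfsg.omegaOne p (⊤ : Subgroup R)) = p ^ 2 := by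
  obtain ⟨N, hN, hNc, hQc⟩ := hm
  obtain ⟨y, hyp, hyN⟩ : ∃ y : R, y ^ p = 1 ∧ y ∉ N := by
    by_contra hall
    push Not at hall
    rcases eq_or_ne N ⊥ with hb | hb
    · subst hb
      exact hnc (isCyclic_of_surjective (QuotientGroup.quotientBot : R ⧸ (⊥ : Subgroup R) ≃* R)
        (MulEquiv.surjective _))
    · have : Nontrivial N := (nontrivial_iff_ne_bot N).2 hb
      obtain ⟨g, hg⟩ := exists_prime_orderOf_dvd_card' (G := N) p
        ((hR.to_subgroup N).card_eq_or_dvd.resolve_left fun h => hb (card_eq_one.1 h))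
      refine hnc (Cfsg.Agent.H24.isCyclic_of_pow_eq_one_mem hR hp2 (A := zpowers (g : R))
        (by rw [Nat.card_zpowers, orderOf_coe, hg]) fun x hx => ?_)
      obtain ⟨i, hi⟩ := mem_zpowers_of_isCyclic (R := N) hg (y := ⟨x, hall x hx⟩) (Subtype.ext (by simpa using hx))
      exact ⟨i, by simpa using congrArg Subtype.val hi⟩
  set q := QuotientGroup.mk' N with hq
  have hyq : orderOf (q y) = p := orderOf_eq_prime (by rw [← map_pow, hyp, map_one])
    fun h => hyN ((QuotientGroup.eq_one_iff y).1 h)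
  set M := (zpowers (q y)).comap q with hMdef
  have hNM : N ≤ M := fun x hx => by
    show q x ∈ zpowers (q y)
    rw [show q x = 1 from (QuotientGroup.eq_one_iff x).2 hx]
    exact one_mem _
  have hall : ∀ x : R, x ^ p = 1 → x ∈ M := fun x hx => by
    haveI := hQc
    exact mem_zpowers_of_isCyclic hyq (show q x ^ p = 1 by rw [← map_pow, hx, map_one])
  let g : M →* zpowers (q y) := q.subgroupComap (zpowers (q y))
  have hg : Function.Surjective g :=
    q.subgroupComap_surjective_of_surjective _ (QuotientGroup.mk'_surjective N)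
  have hgk : g.ker = N.subgroupOf M := by
    ext x
    rw [MonoidHom.mem_ker, mem_subgroupOf, ← QuotientGroup.eq_one_iff (N := N)]
    exact Subtype.ext_iff
  have hidx : (N.subgroupOf M).index = p := by
    rw [← hgk, index_ker, MonoidHom.range_eq_top.2 hg, card_top, Nat.card_zpowers, hyq]
  haveI := hNc
  have hcN : IsCyclic (N.subgroupOf M) :=
    isCyclic_of_surjective (subgroupOfEquivOfLe hNM).symm (MulEquiv.surjective _)
  have hMnc : ¬ IsCyclic M := by
    intro hMc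
    rcases eq_or_ne N ⊥ with hb | hb
    · subst hb
      exact hnc (isCyclic_of_surjective (QuotientGroup.quotientBot : R ⧸ (⊥ : Subgroup R) ≃* R)
        (MulEquiv.surjective _))
    · have : Nontrivial N := (nontrivial_iff_ne_bot N).2 hb
      obtain ⟨n1, hn1⟩ := exists_prime_orderOf_dvd_card' (G := N) p
        ((hR.to_subgroup N).card_eq_or_dvd.resolve_left fun h => hb (card_eq_one.1 h))
      let n1' : M := ⟨n1, hNM n1.2⟩
      have : orderOf n1' = p := by rw [← hn1, ← orderOf_coe, ← orderOf_coe (a := n1)]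
      obtain ⟨i, hi⟩ := mem_zpowers_of_isCyclic this (y := ⟨y, hall y hyp⟩) (Subtype.ext (by simpa using hyp))
      apply hyN
      have h' : (n1 : R) ^ i = y := by simpa [n1'] using congrArg Subtype.val hi
      rw [← h']
      exact zpow_mem n1.2 i
  obtain ⟨E, -, hEc, hEe, hEcard, hEall⟩ := Cfsg.Agent.H24.omega_one_of_cyclic_maximal
    (hR.to_subgroup M) hp2 hMnc hcN hidx
  have heq : Cfsg.omegaOne p (⊤ : Subgroup R) = E.map M.subtype := by
    refine le_antisymm ((closure_le _).2 ?_) ?_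
    · rintro x ⟨-, hx⟩
      exact ⟨⟨x, hall x hx⟩, hEall _ (Subtype.ext (by simpa using hx)), rfl⟩
    · rintro _ ⟨x, hx, rfl⟩
      exact subset_closure ⟨mem_top _, by simpa using congrArg Subtype.val (hEe x hx)⟩
  rw [heq]
  refine ⟨⟨inferInstance, ?_⟩, by rw [card_map_of_injective M.subtype_injective, hEcard]⟩
  rintro _ ⟨x, hx, rfl⟩
  rw [← map_pow, hEe x hx, map_one]

/-- A `p`-group (`p > 3`) with small `Ω₁` is metacyclic. -/
theorem isMetacyclic_of_small_omega {R : Type*} [Group R] [Finite R] (hp3 : 3 < p) (hR : IsPGroup p R)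
    (hO : Nat.card (Cfsg.omegaOne p (⊤ : Subgroup R)) ≤ p ^ 2) : Cfsg.IsMetacyclic R := by
  obtain ⟨n, hn⟩ := IsPGroup.iff_card.1 hR
  rcases Cfsg.Agent.H24.metacyclic_or_max_class R p n (by omega) hn _ hO
    (fun x hx => subset_closure ⟨mem_top x, hx⟩) with h | h
  · exact h
  · omega

theorem isMetacyclic_quotient_of_normal (hm : Cfsg.IsMetacyclic R) (T : Subgroup R) [T.Normal] :
    Cfsg.IsMetacyclic (R ⧸ T) := by
  obtain ⟨N, hN, hNc, hQc⟩ := hm
  haveI := hNc; haveI := hQc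
  set q := QuotientGroup.mk' T
  haveI hn : (N.map q).Normal := hN.map q (QuotientGroup.mk'_surjective T)
  refine ⟨N.map q, hn, isCyclic_of_surjective (q.subgroupMap N) (q.subgroupMap_surjective N), ?_⟩
  let f := (QuotientGroup.mk' (N.map q)).comp q
  refine isCyclic_of_surjective (QuotientGroup.lift N f fun x hx =>
    (QuotientGroup.eq_one_iff _).2 (mem_map_of_mem q hx)) ?_
  exact QuotientGroup.lift_surjective_of_surjective N f
    ((QuotientGroup.mk'_surjective _).comp (QuotientGroup.mk'_surjective T)) _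

theorem card_omegaOne_quotient_le (hp3 : 3 < p) (hR : IsPGroup p R)
    (hO : Nat.card (Cfsg.omegaOne p (⊤ : Subgroup R)) ≤ p ^ 2) (T : Subgroup R) [T.Normal] :
    Nat.card (Cfsg.omegaOne p (⊤ : Subgroup (R ⧸ T))) ≤ p ^ 2 := by
  have hm := isMetacyclic_quotient_of_normal (isMetacyclic_of_small_omega hp3 hR hO) T
  by_cases hc : IsCyclic (R ⧸ T)
  · set W := Cfsg.omegaOne p (⊤ : Subgroup (R ⧸ T))
    by_cases h1 : ∀ x : R ⧸ T, x ^ p = 1 → x = 1
    · have : W = ⊥ := (eq_bot_iff_forall _).2 fun x hx => by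
        induction hx using closure_induction with
        | mem a ha => exact h1 a ha.2
        | one => rfl
        | mul a b _ _ ha hb => rw [ha, hb, one_mul]
        | inv a _ ha => rw [ha, inv_one]
      rw [this, card_bot]
      exact Nat.one_le_pow _ _ hp.out.pos
    · push Not at h1
      obtain ⟨x, hx, hx1⟩ := h1
      have hle : W ≤ zpowers x := (closure_le _).2 fun y hy =>
        mem_zpowers_of_isCyclic (orderOf_eq_prime hx hx1) hy.2
      refine (card_le_of_le hle).trans ?_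
      rw [Nat.card_zpowers, orderOf_eq_prime hx hx1]
      exact Nat.le_self_pow two_ne_zero p
  · exact (omegaOne_of_metacyclic (by omega) (hR.to_quotient T) hm hc).2.le

/-- The conjugation exponent on a normal cyclic subgroup. -/
theorem exists_conj_eq_zpow {a : R} (h : (zpowers a).Normal) (b : R) :
    ∃ k : ℤ, b * a * b⁻¹ = a ^ k := by
  obtain ⟨k, hk⟩ := h.conj_mem a (mem_zpowers a) b
  exact ⟨k, hk.symm⟩

/-- Non-abelian groups with a cyclic subgroup of index `p`, `p` odd. -/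
theorem cyclic_maximal_odd (hp2 : p ≠ 2) (n : ℕ) (hn : 3 ≤ n) (hG : Nat.card R = p ^ n)
    (C : Subgroup R) (hC : IsCyclic C) (hCi : C.index = p) (hna : ∃ x y : R, x * y ≠ y * x) :
    ∃ a b : R, orderOf a = p ^ (n - 1) ∧ orderOf b = p ∧ b ∉ zpowers a ∧
      b * a * b⁻¹ = a ^ (1 + p ^ (n - 2)) := by
  have hR : IsPGroup p R := IsPGroup.of_card hG
  have hnc : ¬ IsCyclic R := fun h => by
    obtain ⟨g, hg⟩ := h.exists_generator
    obtain ⟨x, y, hxy⟩ := hna
    obtain ⟨i, rfl⟩ := hg x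
    obtain ⟨j, rfl⟩ := hg y
    exact hxy (by rw [← zpow_add, ← zpow_add, add_comm])
  obtain ⟨E, hEn, hEc, hEe, hEcard, hEall⟩ :=
    Cfsg.Agent.H24.omega_one_of_cyclic_maximal hR hp2 hnc hC hCi
  obtain ⟨⟨a, haC⟩, ha⟩ := hC.exists_generator
  have hza : zpowers a = C := le_antisymm (zpowers_le.2 haC) fun x hx => by
    obtain ⟨i, hi⟩ := ha ⟨x, hx⟩
    exact ⟨i, congrArg Subtype.val hi⟩
  have hcardC : Nat.card C = p ^ (n - 1) := by
    have h := C.card_mul_index
    rw [hG, hCi, show n = (n - 1) + 1 by omega, pow_succ] at h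
    exact Nat.eq_of_mul_eq_mul_right hp.out.pos h
  have horda : orderOf a = p ^ (n - 1) := by rw [← Nat.card_zpowers, hza, hcardC]
  haveI hCn : C.Normal := Subgroup.normal_of_index_eq_minFac_card (by
    rw [hCi, hG, hp.out.pow_minFac (by omega)])
  set z := a ^ (p ^ (n - 2)) with hz
  have hzord : orderOf z = p := by
    rw [hz, orderOf_pow' _ (pow_ne_zero _ hp.out.ne_zero), horda,
      Nat.gcd_eq_right (pow_dvd_pow p (by omega)), Nat.pow_div (by omega) hp.out.pos,
      show n - 1 - (n - 2) = 1 by omega, pow_one]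
  have hCz : ∀ x ∈ C, x ^ p = 1 → x ∈ zpowers z := by
    intro x hx hxp
    let z' : C := ⟨z, pow_mem haC _⟩
    have hz' : orderOf z' = p := by rw [← orderOf_coe]; exact hzord
    obtain ⟨i, hi⟩ := mem_zpowers_of_isCyclic hz' (y := ⟨x, hx⟩) (Subtype.ext (by simpa using hxp))
    exact ⟨i, by simpa [z'] using congrArg Subtype.val hi⟩
  obtain ⟨b, hbE, hbC⟩ : ∃ b ∈ E, b ∉ C := by
    by_contra h
    push Not at h
    have h1 := card_le_of_le (fun x hx => hCz x (h x hx) (hEe x hx) : E ≤ zpowers z)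
    rw [Nat.card_zpowers, hzord, hEcard] at h1
    exact (lt_self_pow₀ hp.out.one_lt one_lt_two).not_ge h1
  have hmax : ∀ H : Subgroup R, C ≤ H → b ∈ H → H = ⊤ := by
    intro H hCH hbH
    refine Cfsg.Agent.H24.eq_of_between_prime (p := p) hCH (fun e => hbC (e ▸ hbH)) le_top ?_
    rw [card_top, ← C.card_mul_index, hCi, mul_comm]
  have hd : ⁅b, a⁆ ∈ zpowers z := hCz _
    (mul_mem (hCn.conj_mem a haC b) (inv_mem haC))
    (hEe _ (by
      have : b * (a * b⁻¹ * a⁻¹) ∈ E := mul_mem hbE (hEn.conj_mem _ (inv_mem hbE) a)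
      simpa [commutatorElement_def, mul_assoc] using this))
  obtain ⟨i, hi : z ^ i = ⁅b, a⁆⟩ := hd
  have hine : ⁅b, a⁆ ≠ 1 := by
    intro h1
    obtain ⟨x, y, hxy⟩ := hna
    have hcomm : Commute a b := (commutatorElement_eq_one_iff_mul_comm.1 h1).symm
    have hb : ∀ g : R, g ∈ centralizer ({a, b} : Set R) := by
      have : centralizer ({a, b} : Set R) = ⊤ := hmax _
        (hza ▸ zpowers_le.2 (mem_centralizer_iff.2 (by
          rintro w (rfl | rfl)
          · rfl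
          · exact hcomm.symm)))
        (mem_centralizer_iff.2 (by
          rintro w (rfl | rfl)
          · exact hcomm
          · rfl))
      intro g; rw [this]; exact mem_top g
    have hZ : center R = ⊤ := hmax _
      (hza ▸ zpowers_le.2 (mem_center_iff.2 fun g => (mem_centralizer_iff.1 (hb g) a (Or.inl rfl)).symm))
      (mem_center_iff.2 fun g => (mem_centralizer_iff.1 (hb g) b (Or.inr rfl)).symm)
    exact hxy (mem_center_iff.1 (hZ ▸ mem_top y : y ∈ center R) x)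
  have hbz : Commute b z := by
    haveI := hEc
    exact congrArg Subtype.val
      (IsMulCommutative.is_comm.comm (⟨b, hbE⟩ : E) ⟨z, hEall _ (hzord ▸ pow_orderOf_eq_one z)⟩)
  have hpi : ¬ (p : ℤ) ∣ i := by
    intro hdvd
    apply hine
    rw [← hi, ← orderOf_dvd_iff_zpow_eq_one, hzord]
    exact hdvd
  obtain ⟨u, v, huv⟩ := (Int.isCoprime_iff_gcd_eq_one.2 (by
    rw [Int.gcd_comm]
    exact ((Nat.prime_iff_prime_int.1 hp.out).coprime_iff_not_dvd.2 hpi |> Int.isCoprime_iff_gcd_eq_one.1)) :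
      IsCoprime i (p : ℤ))
  have hconj : b * a * b⁻¹ = z ^ i * a := by
    rw [hi, commutatorElement_def, inv_mul_cancel_right]
  have hconjn : ∀ k : ℕ, b ^ k * a * (b ^ k)⁻¹ = z ^ (i * k) * a := by
    intro k
    induction k with
    | zero => simp
    | succ k ih =>
      calc b ^ (k + 1) * a * (b ^ (k + 1))⁻¹ = b * (b ^ k * a * (b ^ k)⁻¹) * b⁻¹ := by
            rw [pow_succ', mul_inv_rev]; simp only [mul_assoc]
        _ = b * z ^ (i * k) * (a * b⁻¹) := by rw [ih]; simp only [mul_assoc]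
        _ = z ^ (i * k) * (b * a * b⁻¹) := by rw [(hbz.zpow_right _).eq]; simp only [mul_assoc]
        _ = z ^ (i * (k + 1 : ℕ)) * a := by
          rw [hconj, ← mul_assoc, ← zpow_add]; push_cast; ring_nf
  obtain ⟨k, hk⟩ : ∃ k : ℕ, (p : ℤ) ∣ i * k - 1 := by
    refine ⟨(u % p).toNat, ?_⟩
    rw [Int.toNat_of_nonneg (Int.emod_nonneg _ (by exact_mod_cast hp.out.ne_zero)), Int.emod_def]
    exact ⟨-v - i * (u / p), by linear_combination huv⟩
  have hzk : z ^ (i * k) = z := by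
    have : z ^ (i * k - 1) = 1 := by rw [← orderOf_dvd_iff_zpow_eq_one, hzord]; exact hk
    rwa [zpow_sub_one, mul_inv_eq_one] at this
  have hbk : b ^ k ∉ zpowers a := by
    rw [hza]
    intro hmem
    apply hbC
    have hbord : orderOf b = p := orderOf_eq_prime (hEe b hbE) fun h => hbC (h ▸ one_mem C)
    have hcop : (k : ℕ).Coprime p := by
      refine ((hp.out.coprime_iff_not_dvd.2 fun hdvd => ?_)).symm
      obtain ⟨c, rfl⟩ := hdvd
      have : (p : ℤ) ∣ 1 := by
        have h2 := dvd_sub (dvd_mul_of_dvd_right (Dvd.intro (c : ℤ) rfl) i) (by push_cast at hk; exact hk)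
        simpa using h2
      exact hp.out.one_lt.ne' (by exact_mod_cast Int.eq_one_of_dvd_one (by positivity) this)
    obtain ⟨j, hj⟩ := exists_pow_eq_self_of_coprime (x := b) (n := k) (by rw [hbord]; exact hcop)
    rw [← hj]
    exact pow_mem hmem j
  refine ⟨a, b ^ k, horda, orderOf_eq_prime ?_ (fun h => hbk (h ▸ one_mem _)), hbk, ?_⟩
  · rw [← pow_mul, mul_comm, pow_mul, hEe b hbE, one_pow]
  · rw [hconjn, hzk, hz, ← pow_succ, add_comm]

/-- Non-abelian `2`-groups with a cyclic subgroup of index two. -/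
theorem cyclic_maximal_two {G : Type*} [Group G] [Finite G] (n : ℕ) (hn : 3 ≤ n)
    (hG : Nat.card G = 2 ^ n) (C : Subgroup G) (hC : IsCyclic C) (hCi : C.index = 2)
    (hna : ∃ x y : G, x * y ≠ y * x) :
    ∃ a b : G, orderOf a = 2 ^ (n - 1) ∧ b ∉ zpowers a ∧
      ((b ^ 2 = 1 ∧ b * a * b⁻¹ = a⁻¹) ∨ (b ^ 2 = a ^ (2 ^ (n - 2)) ∧ b * a * b⁻¹ = a⁻¹) ∨
        (4 ≤ n ∧ b ^ 2 = 1 ∧ b * a * b⁻¹ = a ^ (1 + 2 ^ (n - 2))) ∨
        (4 ≤ n ∧ b ^ 2 = 1 ∧ b * a * b⁻¹ = a ^ (2 ^ (n - 2) - 1))) := by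
  obtain ⟨N, rfl⟩ : ∃ N, n = N + 3 := ⟨n - 3, by omega⟩
  rw [show N + 3 - 1 = N + 2 by omega, show N + 3 - 2 = N + 1 by omega]
  obtain ⟨⟨a, haC⟩, ha⟩ := hC.exists_generator
  have hza : zpowers a = C := le_antisymm (zpowers_le.2 haC) fun x hx => by
    obtain ⟨i, hi⟩ := ha ⟨x, hx⟩
    exact ⟨i, congrArg Subtype.val hi⟩
  have hcardC : Nat.card C = 2 ^ (N + 2) := by
    have h := C.card_mul_index
    rw [hG, hCi, pow_succ] at h
    exact Nat.eq_of_mul_eq_mul_right two_pos h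
  have horda : orderOf a = 2 ^ (N + 2) := by rw [← Nat.card_zpowers, hza, hcardC]
  haveI hCn : C.Normal := Subgroup.normal_of_index_eq_two hCi
  obtain ⟨b, hb⟩ : ∃ b, b ∉ C := by
    by_contra h
    push Not at h
    rw [(eq_top_iff' C).2 h, index_top] at hCi
    omega
  obtain ⟨k, hk : a ^ k = b * a * b⁻¹⟩ : b * a * b⁻¹ ∈ zpowers a := hza ▸ hCn.conj_mem a haC b
  obtain ⟨m, hm : a ^ m = b ^ 2⟩ : b ^ 2 ∈ zpowers a := hza ▸ Subgroup.sq_mem_of_index_two hCi b
  have hconj : ∀ j : ℤ, b * a ^ j * b⁻¹ = a ^ (k * j) := fun j => by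
    rw [zpow_mul, hk, conj_zpow]
  have hiff : ∀ z : ℤ, a ^ z = 1 ↔ (2 : ℤ) ^ (N + 2) ∣ z := fun z => by
    rw [← orderOf_dvd_iff_zpow_eq_one, horda]; norm_num
  have hk2 : (2 : ℤ) ^ (N + 2) ∣ k * k - 1 := by
    rw [← hiff, zpow_sub_one, mul_inv_eq_one, ← hconj, hk,
      show b * (b * a * b⁻¹) * b⁻¹ = b ^ 2 * a * (b ^ 2)⁻¹ by rw [pow_two, mul_inv_rev]; simp only [mul_assoc],
      ← hm]
    group
  have hkm : (2 : ℤ) ^ (N + 2) ∣ k * m - m := by
    rw [← hiff, zpow_sub, mul_inv_eq_one, ← hconj, hm, pow_two]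
    group
  have hk1 : ¬ (2 : ℤ) ^ (N + 2) ∣ k - 1 := by
    rw [← hiff, zpow_sub_one, mul_inv_eq_one, hk, mul_inv_eq_iff_eq_mul]
    intro hcomm
    obtain ⟨x, y, hxy⟩ := hna
    have hcl : ∀ g : G, (∀ c ∈ C, g * c = c * g) → g * b = b * g → g ∈ center G := by
      intro g h1 h2
      refine mem_center_iff.2 fun w => ?_
      by_cases hw : w ∈ C
      · exact (h1 w hw).symm
      · have hwb : w * b ∈ C := by
          rw [Subgroup.mul_mem_iff_of_index_two hCi]
          exact iff_of_false hw hb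
        have e : g * (w * b) = w * b * g := h1 _ hwb
        rw [mul_assoc w b g, ← h2, ← mul_assoc, ← mul_assoc] at e
        exact (mul_right_cancel e).symm
    have hCcomm : ∀ c ∈ C, ∀ c' ∈ C, c * c' = c' * c := by
      intro c hc c' hc'
      rw [← hza] at hc hc'
      obtain ⟨i, rfl⟩ := hc
      obtain ⟨j, rfl⟩ := hc'
      rw [← zpow_add, ← zpow_add, add_comm]
    have hba : ∀ c ∈ C, b * c = c * b := by
      intro c hc
      rw [← hza] at hc
      obtain ⟨i, rfl⟩ := hc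
      exact (show Commute b a from hcomm).zpow_right i
    have hZb : b ∈ center G := hcl b hba rfl
    have hZC : C ≤ center G := fun c hc => hcl c (fun c' hc' => hCcomm c hc c' hc') (hba c hc).symm
    have hyc : y ∈ center G := by
      by_cases hy : y ∈ C
      · exact hZC hy
      · have hyb : y * b⁻¹ ∈ C := by
          rw [Subgroup.mul_mem_iff_of_index_two hCi, inv_mem_iff]
          exact iff_of_false hy hb
        rw [← inv_mul_cancel_right y b]
        exact mul_mem (hZC hyb) hZb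
    exact hxy (mem_center_iff.1 hyc x)
  have hodd : Odd k := by
    by_contra h
    rw [Int.not_odd_iff_even] at h
    obtain ⟨t, rfl⟩ := h
    obtain ⟨c, hc⟩ := (dvd_pow_self (2 : ℤ) (show N + 2 ≠ 0 by omega)).trans hk2
    have e : 2 * (2 * t * t - c) = 1 := by linear_combination hc
    rcases Int.eq_one_or_neg_one_of_mul_eq_one e with h | h <;> omega
  obtain ⟨t, rfl⟩ := hodd
  -- the three possibilities for the exponent
  have hcases : (2 : ℤ) ^ (N + 2) ∣ (2 * t + 1) + 1 ∨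
      (1 ≤ N ∧ (2 : ℤ) ^ (N + 2) ∣ (2 * t + 1) - 1 - 2 ^ (N + 1)) ∨
      (1 ≤ N ∧ (2 : ℤ) ^ (N + 2) ∣ (2 * t + 1) + 1 - 2 ^ (N + 1)) := by
    have hd : (2 : ℤ) ^ N ∣ t * (t + 1) := by
      rw [show (2 * t + 1) * (2 * t + 1) - 1 = 4 * (t * (t + 1)) by ring, pow_add,
        mul_comm ((2 : ℤ) ^ N), show (2 : ℤ) ^ 2 = 4 by norm_num] at hk2
      exact (mul_dvd_mul_iff_left (by norm_num : (4 : ℤ) ≠ 0)).1 hk2
    rcases N with - | N
    · left
      rcases Int.even_or_odd t with ⟨c, rfl⟩ | ⟨c, rfl⟩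
      · exact absurd ⟨c, by ring⟩ hk1
      · exact ⟨c + 1, by ring⟩
    · rcases Int.even_or_odd t with ht | ht
      · have ht1 : IsCoprime ((2 : ℤ) ^ (N + 1)) (t + 1) := by
          obtain ⟨c, rfl⟩ := ht
          exact (IsCoprime.pow_left (m := N + 1) ⟨-c, 1, by ring⟩)
        obtain ⟨c, rfl⟩ := ht1.dvd_of_dvd_mul_right hd
        rcases Int.even_or_odd c with ⟨e, rfl⟩ | ⟨e, rfl⟩
        · exact absurd ⟨e, by ring⟩ hk1
        · exact Or.inr (Or.inl ⟨by omega, ⟨e, by ring⟩⟩)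
      · have ht1 : IsCoprime ((2 : ℤ) ^ (N + 1)) t := by
          obtain ⟨c, rfl⟩ := ht
          exact (IsCoprime.pow_left (m := N + 1) ⟨-c, 1, by ring⟩)
        obtain ⟨c, hc⟩ := ht1.dvd_of_dvd_mul_left hd
        have hc' : t = 2 ^ (N + 1) * c - 1 := by linear_combination hc
        subst hc'
        rcases Int.even_or_odd c with ⟨e, rfl⟩ | ⟨e, rfl⟩
        · exact Or.inl ⟨e, by ring⟩
        · exact Or.inr (Or.inr ⟨by omega, ⟨e, by ring⟩⟩)
  set k := 2 * t + 1
  have hkeq : ∀ z : ℤ, (2 : ℤ) ^ (N + 2) ∣ k - z → b * a * b⁻¹ = a ^ z := by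
    intro z hz
    rw [← hiff, zpow_sub, mul_inv_eq_one] at hz
    rw [← hk, hz]
  have hmul : ∀ i : ℤ, (a ^ i * b) * a * (a ^ i * b)⁻¹ = b * a * b⁻¹ ∧
      (a ^ i * b) ^ 2 = a ^ (i * (1 + k) + m) ∧ a ^ i * b ∉ zpowers a := by
    intro i
    refine ⟨?_, ?_, ?_⟩
    · rw [mul_inv_rev, show a ^ i * b * a * (b⁻¹ * (a ^ i)⁻¹) = a ^ i * (b * a * b⁻¹) * (a ^ i)⁻¹ by
        simp only [mul_assoc], ← hk, ← zpow_add, add_comm, zpow_add, mul_inv_cancel_right]
    · rw [pow_two, show a ^ i * b * (a ^ i * b) = a ^ i * (b * a ^ i * b⁻¹) * b ^ 2 by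
        rw [pow_two]; simp only [mul_assoc, inv_mul_cancel_left], hconj, ← hm, ← zpow_add, ← zpow_add]
      ring_nf
    · intro h
      apply hb
      rw [hza] at h
      exact ((C.mul_mem_cancel_left (zpow_mem haC i)).1 h)
  rcases hcases with hneg | ⟨hN, hmod⟩ | ⟨hN, hsemi⟩
  · have hc : b * a * b⁻¹ = a⁻¹ := by
      rw [hkeq (-1) (by rwa [sub_neg_eq_add]), zpow_neg_one]
    have h2m : (2 : ℤ) ^ (N + 1) ∣ m := by
      have h1 : (2 : ℤ) ^ (N + 2) ∣ (k + 1) * m - (k * m - m) := dvd_sub (dvd_mul_of_dvd_left hneg m) hkm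
      rw [show (k + 1) * m - (k * m - m) = m * 2 by ring, pow_succ] at h1
      exact (mul_dvd_mul_iff_right (by norm_num : (2 : ℤ) ≠ 0)).1 h1
    obtain ⟨c, rfl⟩ := h2m
    refine ⟨a, b, horda, hza ▸ hb, ?_⟩
    rcases Int.even_or_odd c with ⟨e, rfl⟩ | ⟨e, rfl⟩
    · exact Or.inl ⟨by rw [← hm, hiff]; exact ⟨e, by ring⟩, hc⟩
    · refine Or.inr (Or.inl ⟨?_, hc⟩)
      rw [← hm, ← zpow_natCast a, ← mul_inv_eq_one, ← zpow_sub, hiff]
      exact ⟨e, by push_cast; ring⟩
  · obtain ⟨M, rfl⟩ : ∃ M, N = M + 1 := ⟨N - 1, by omega⟩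
    have hme : Even m := by
      have h1 : (2 : ℤ) ^ (M + 1 + 2) ∣ (k - 1 - 2 ^ (M + 1 + 1)) * m - (k * m - m) :=
        dvd_sub (dvd_mul_of_dvd_left hmod m) hkm
      rw [show (k - 1 - 2 ^ (M + 1 + 1)) * m - (k * m - m) = -(2 ^ (M + 1 + 1) * m) by ring, dvd_neg,
        show M + 1 + 2 = (M + 1 + 1) + 1 by rfl, pow_succ] at h1
      exact even_iff_two_dvd.2 ((mul_dvd_mul_iff_left (by positivity)).1 h1)
    obtain ⟨l, rfl⟩ := hme
    obtain ⟨u, v, huv⟩ : IsCoprime ((2 : ℤ) ^ (M + 2)) (1 + 2 ^ (M + 1)) :=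
      IsCoprime.pow_left ⟨-2 ^ M, 1, by ring⟩
    obtain ⟨h1, h2, h3⟩ := hmul (-(v * l))
    refine ⟨a, a ^ (-(v * l)) * b, horda, h3, Or.inr (Or.inr (Or.inl ⟨by omega, ?_, ?_⟩))⟩
    · rw [h2, hiff]
      obtain ⟨c, hc⟩ := hmod
      refine ⟨-(v * l) * c + l * u, ?_⟩
      linear_combination (-(v * l)) * hc - 2 * l * huv
    · rw [h1, hkeq (((1 + 2 ^ (M + 1 + 1) : ℕ)) : ℤ) (by push_cast; rw [← sub_sub]; exact hmod), zpow_natCast]
  · obtain ⟨M, rfl⟩ : ∃ M, N = M + 1 := ⟨N - 1, by omega⟩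
    have hc : b * a * b⁻¹ = a ^ (2 ^ (M + 1 + 1) - 1 : ℕ) := by
      rw [hkeq ((2 ^ (M + 1 + 1) - 1 : ℕ) : ℤ) ?_, zpow_natCast]
      rw [Nat.cast_sub Nat.one_le_two_pow]
      push_cast
      rwa [show k - (2 ^ (M + 1 + 1) - 1) = k + 1 - 2 ^ (M + 1 + 1) by ring]
    have hdm : (2 : ℤ) ^ (M + 1 + 1) ∣ m := by
      have h1 : (2 : ℤ) ^ (M + 1 + 2) ∣ (k + 1 - 2 ^ (M + 1 + 1)) * m - (k * m - m) :=
        dvd_sub (dvd_mul_of_dvd_left hsemi m) hkm
      rw [show (k + 1 - 2 ^ (M + 1 + 1)) * m - (k * m - m) = 2 * (m * (1 - 2 ^ (M + 1))) by ring,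
        show M + 1 + 2 = (M + 1 + 1) + 1 by rfl, pow_succ'] at h1
      have hcp : IsCoprime ((2 : ℤ) ^ (M + 1 + 1)) (1 - 2 ^ (M + 1)) :=
        IsCoprime.pow_left ⟨2 ^ M, 1, by ring⟩
      exact hcp.dvd_of_dvd_mul_right ((mul_dvd_mul_iff_left (by norm_num : (2 : ℤ) ≠ 0)).1 h1)
    obtain ⟨c, rfl⟩ := hdm
    obtain ⟨h1, h2, h3⟩ := hmul c
    refine ⟨a, a ^ c * b, horda, h3, Or.inr (Or.inr (Or.inr ⟨by omega, ?_, h1.trans hc⟩))⟩
    rw [h2, hiff]
    obtain ⟨e, he⟩ := hsemi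
    exact ⟨c * e + c, by linear_combination c * he⟩

end Cfsg.Agent.H35
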